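import Cfsg.Agent.Lib.BlockB.Dade.Sympl
import Cfsg.Agent.Lib.Coprime.Abelian
import Mathlib.GroupTheory.PGroup

/-!
# Fixed subgroups of odd groups of automorphisms of a group with two element centre

The fixed subgroup of an odd group of automorphisms again has two element centre, commuting families of
such subgroups split off with their centraliser.
-/

namespace CfsgLib.BlockB.Dade

open Subgroup

universe u

variable {E : Type u} [Group E] {z : E}

theorem mem_zpowers_iff' (hS : Sympl z) {x : E} : x ∈ zpowers z ↔ x = 1 ∨ x = z := by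
  refine ⟨fun hx => ?_, fun h => by rcases h with rfl | rfl <;> simp⟩
  obtain ⟨k, rfl⟩ := mem_zpowers_iff.mp hx
  rcases Int.even_or_odd k with ⟨m, rfl⟩ | ⟨m, rfl⟩
  · left; rw [← two_mul, zpow_mul, zpow_two, hS.sq, one_zpow]
  · right; rw [zpow_add, zpow_mul, zpow_two, hS.sq, one_zpow, one_mul, zpow_one]

theorem Sympl.normal (hS : Sympl z) : (zpowers z).Normal := ⟨fun x hx g => by
  rcases (mem_zpowers_iff' hS).mp hx with rfl | rfl
  · simp
  · rw [← hS.central g, mul_inv_cancel_right]; exact mem_zpowers _⟩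

theorem Sympl.isPGroup (hS : Sympl z) : IsPGroup 2 E := fun g => by
  refine ⟨2, ?_⟩
  have h : g * g = 1 ∨ g * g = z := hS.nondeg _ fun y => by
    rcases hS.comm g y with h | h
    · rw [mul_assoc, h, ← mul_assoc, h, mul_assoc]
    · rw [mul_assoc, h, ← mul_assoc g, ← hS.central g, mul_assoc z, ← mul_assoc g y, h,
        mul_assoc z, ← mul_assoc z z, hS.sq, one_mul, mul_assoc]
  rw [show (2 : ℕ) ^ 2 = 2 + 2 from rfl, pow_add, pow_two]
  rcases h with h | h <;> simp [h, hS.sq]

/-- `1` on the elements commuting with `y` and `-1` on the others. -/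
noncomputable def sgn (hS : Sympl z) (y : E) : E →* ℤˣ :=
  MonoidHom.mk' (fun a => open Classical in if a * y = y * a then 1 else -1) fun a b => by
    classical
    rcases hS.comm a y with ha | ha <;> rcases hS.comm b y with hb | hb
    · have hab : a * b * y = y * (a * b) := by rw [mul_assoc, hb, ← mul_assoc, ha, mul_assoc]
      simp [ha, hb, hab]
    · by_cases hb' : b * y = y * b
      · have hab : a * b * y = y * (a * b) := by rw [mul_assoc, hb', ← mul_assoc, ha, mul_assoc]
        simp [ha, hb', hab]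
      · have hab : ¬ a * b * y = y * (a * b) := fun h => hb' (mul_left_cancel (a := a) (by
          rw [← mul_assoc, h, ← mul_assoc, ← ha, mul_assoc]))
        simp [ha, hb', hab]
    · by_cases ha' : a * y = y * a
      · have hab : a * b * y = y * (a * b) := by rw [mul_assoc, hb, ← mul_assoc, ha', mul_assoc]
        simp [ha', hb, hab]
      · have hab : ¬ a * b * y = y * (a * b) := fun h => ha' (mul_right_cancel (b := b) (by
          rw [mul_assoc, ← hb, ← mul_assoc, h, mul_assoc]))
        simp [ha', hb, hab]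
    · by_cases ha' : a * y = y * a
      · have h1 : z = 1 := by
          rw [ha'] at ha
          exact (mul_eq_right.mp ha.symm :)
        exact absurd h1 hS.ne_one
      by_cases hb' : b * y = y * b
      · have h1 : z = 1 := by
          rw [hb'] at hb
          exact (mul_eq_right.mp hb.symm :)
        exact absurd h1 hS.ne_one
      have hab : a * b * y = y * (a * b) := by
        rw [mul_assoc, hb, ← mul_assoc, ← hS.central a, mul_assoc z, ← mul_assoc a, ha,
          mul_assoc z, ← mul_assoc z z, hS.sq, one_mul, mul_assoc]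
      simp [ha', hb', hab]

theorem sgn_eq_one_iff (hS : Sympl z) {y a : E} : sgn hS y a = 1 ↔ a * y = y * a := by
  classical
  by_cases h : a * y = y * a <;> simp [sgn, h]

theorem sgn_inv (hS : Sympl z) (y a : E) : sgn hS y a⁻¹ = sgn hS y a := by
  rw [map_inv, Int.units_inv_eq_self]

theorem sgn_apply_aut (hS : Sympl z) (α : MulAut E) {y a : E} (hy : α y = y) :
    sgn hS y (α a) = sgn hS y a := by
  classical
  have : α a * y = y * α a ↔ a * y = y * a := by
    conv_lhs => rw [← hy, ← map_mul, ← map_mul]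
    exact α.injective.eq_iff
  by_cases h : a * y = y * a <;> simp [sgn, h, this]

/-- A subgroup containing `z` with centre inside `{1, z}`. -/
theorem Sympl.sub (hS : Sympl z) {F : Subgroup E} (hz : z ∈ F)
    (h : ∀ x ∈ F, (∀ y ∈ F, x * y = y * x) → x = 1 ∨ x = z) : Sympl (⟨z, hz⟩ : F) where
  ne_one := fun h1 => hS.ne_one (congr_arg Subtype.val h1)
  sq := Subtype.ext hS.sq
  central := fun e => Subtype.ext (hS.central e)
  comm := fun a b => (hS.comm a b).imp Subtype.ext Subtype.ext
  nondeg := fun x hx => (h x x.2 fun y hy => congr_arg Subtype.val (hx ⟨y, hy⟩)).imp Subtype.ext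
    Subtype.ext

/-- The elements fixed by all members of `L`. -/
def fixSub (L : Subgroup (MulAut E)) : Subgroup E where
  carrier := {x | ∀ k ∈ L, k x = x}
  one_mem' := fun k _ => map_one k
  mul_mem' := fun {a b} ha hb k hk => by rw [map_mul, ha k hk, hb k hk]
  inv_mem' := fun {a} ha k hk => by rw [map_inv, ha k hk]

theorem mem_fixSub {L : Subgroup (MulAut E)} {x : E} : x ∈ fixSub L ↔ ∀ k ∈ L, k x = x := Iff.rfl

theorem fix_of_fix_mod (hS : Sympl z) {α : MulAut E} (hαz : α z = z) (hodd : Odd (orderOf α))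
    {x : E} (h : α x = x ∨ α x = z * x) : α x = x := by
  rcases h with h | h
  · exact h
  exfalso
  have : ∀ j : ℕ, (α ^ (2 * j + 1)) x = z * x := by
    intro j
    induction j with
    | zero => simpa using h
    | succ j ih =>
      rw [show 2 * (j + 1) + 1 = 2 + (2 * j + 1) by ring, pow_add, MulAut.mul_apply, ih, pow_two,
        MulAut.mul_apply, map_mul, hαz, h, ← mul_assoc z z, hS.sq, one_mul, h]
  obtain ⟨j, hj⟩ := hodd
  have h1 := this j
  rw [← hj, pow_orderOf_eq_one, MulAut.one_apply] at h1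
  exact hS.ne_one (mul_eq_right.mp h1.symm :)

variable [Finite E]

/-- The action on the quotient by `zpowers z`. -/
noncomputable def qAct [(zpowers z).Normal] (K : Subgroup (MulAut E)) (hKz : ∀ k ∈ K, k z = z) :
    K →* MulAut (E ⧸ zpowers z) where
  toFun k := QuotientGroup.congr _ _ (k : MulAut E) (by
    rw [MonoidHom.map_zpowers]
    congr 1
    exact hKz k k.2)
  map_one' := MulEquiv.ext fun x => QuotientGroup.induction_on x fun a => rfl
  map_mul' := fun a b => MulEquiv.ext fun x => QuotientGroup.induction_on x fun a => rfl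

theorem qAct_mk [(zpowers z).Normal] (K : Subgroup (MulAut E)) (hKz : ∀ k ∈ K, k z = z) (k : K)
    (a : E) : qAct K hKz k (a : E ⧸ zpowers z) = ((k : MulAut E) a : E ⧸ zpowers z) := rfl

/-- The commutative group structure on the quotient. -/
@[reducible] noncomputable def Sympl.commGroup (hS : Sympl z) [(zpowers z).Normal] :
    CommGroup (E ⧸ zpowers z) :=
  { (inferInstance : Group (E ⧸ zpowers z)) with
    mul_comm := fun a b => QuotientGroup.induction_on a fun a => QuotientGroup.induction_on b fun b => by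
      rw [← QuotientGroup.mk_mul, ← QuotientGroup.mk_mul, QuotientGroup.eq, mem_zpowers_iff' hS]
      rcases hS.comm a b with h | h
      · left; rw [h, inv_mul_cancel]
      · right
        rw [h, mul_inv_rev, hS.inv_eq, mul_assoc, hS.central (b * a), inv_mul_cancel_left] }

theorem eq_mod (hS : Sympl z) [(zpowers z).Normal] {a b : E}
    (h : (a : E ⧸ zpowers z) = (b : E ⧸ zpowers z)) : a = b ∨ a = z * b := by
  rw [QuotientGroup.eq, mem_zpowers_iff' hS] at h
  rcases h with h | h
  · left; exact inv_mul_eq_one.mp h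
  · right
    rw [inv_mul_eq_iff_eq_mul] at h
    rw [h, hS.central, mul_assoc, hS.sq, mul_one]

/-- **The norm**: each element has a companion fixed by `L` with the same commutation behaviour
against the fixed elements. -/
theorem exists_norm (hS : Sympl z) (L : Subgroup (MulAut E)) (hodd : Odd (Nat.card L))
    (hLz : ∀ k ∈ L, k z = z) (e : E) :
    ∃ n ∈ fixSub L, (∀ y ∈ fixSub L, sgn hS y n = sgn hS y e) ∧
      ∀ α : MulAut E, α z = z → Odd (orderOf α) → (∀ k ∈ L, α * k = k * α) → α e = e → α n = n := by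
  classical
  have := hS.normal
  letI := hS.commGroup
  have : Fintype L := Fintype.ofFinite L
  set q := CfsgLib.Coprime.orbitProd (qAct L hLz) ⊤ (e : E ⧸ zpowers z) with hq
  obtain ⟨n, hn⟩ := QuotientGroup.mk_surjective q
  have hodd' : ∀ k ∈ L, Odd (orderOf k) := fun k hk => hodd.of_dvd_nat
    ((Subgroup.orderOf_mk k hk).symm ▸ orderOf_dvd_natCard (⟨k, hk⟩ : L))
  refine ⟨n, fun k hk => fix_of_fix_mod hS (hLz k hk) (hodd' k hk) (eq_mod hS ?_),
    fun y hy => ?_, fun α hαz hα hcom hαe => fix_of_fix_mod hS hαz hα (eq_mod hS ?_)⟩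
  · have := CfsgLib.Coprime.apply_orbitProd (qAct L hLz) ⊤ (mem_top (⟨k, hk⟩ : L))
      (e : E ⧸ zpowers z)
    rw [← hq, ← hn, qAct_mk] at this
    exact this
  · let f : E ⧸ zpowers z →* ℤˣ := QuotientGroup.lift _ (sgn hS y) (zpowers_le.mpr
      ((MonoidHom.mem_ker).mpr ((sgn_eq_one_iff hS).mpr (hS.central y))))
    have hf : ∀ a : E, f (a : E ⧸ zpowers z) = sgn hS y a := fun a => rfl
    have h1 : f q = sgn hS y e ^ Fintype.card L := by
      rw [hq, show CfsgLib.Coprime.orbitProd (qAct L hLz) ⊤ (e : E ⧸ zpowers z) =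
        ∏ k ∈ Finset.univ.filter (· ∈ (⊤ : Subgroup L)), qAct L hLz k (e : E ⧸ zpowers z) from rfl,
        map_prod, Finset.filter_true_of_mem fun k _ => mem_top k, ← Finset.card_univ,
        ← Finset.prod_const]
      exact Finset.prod_congr rfl fun k _ => by rw [qAct_mk, hf, sgn_apply_aut hS _ (hy k k.2)]
    rw [← hn, hf] at h1
    rw [h1]
    obtain ⟨m, hm⟩ := hodd
    rw [Nat.card_eq_fintype_card] at hm
    rw [hm, pow_succ, pow_mul, Int.units_sq, one_pow, one_mul]
  · have h2 : qAct (zpowers α) (fun k hk => by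
        obtain ⟨i, rfl⟩ := mem_zpowers_iff.mp hk
        exact (show α ^ i ∈ MulAction.stabilizer (MulAut E) z from zpow_mem hαz i))
        ⟨α, mem_zpowers α⟩ q = q := by
      rw [hq]
      change _ = ∏ k ∈ Finset.univ.filter (· ∈ (⊤ : Subgroup L)), qAct L hLz k (e : E ⧸ zpowers z)
      rw [show CfsgLib.Coprime.orbitProd (qAct L hLz) ⊤ (e : E ⧸ zpowers z) =
        ∏ k ∈ Finset.univ.filter (· ∈ (⊤ : Subgroup L)), qAct L hLz k (e : E ⧸ zpowers z) from rfl,
        map_prod]
      refine Finset.prod_congr rfl fun k _ => ?_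
      rw [qAct_mk, qAct_mk]
      congr 1
      change α ((k : MulAut E) e) = (k : MulAut E) e
      rw [← MulAut.mul_apply, hcom k k.2, MulAut.mul_apply, hαe]
    rw [← hn, qAct_mk] at h2
    exact h2

/-- The fixed subgroup of an odd group of automorphisms has centre `{1, z}`. -/
theorem Sympl.fix (hS : Sympl z) (L : Subgroup (MulAut E)) (hodd : Odd (Nat.card L))
    (hLz : ∀ k ∈ L, k z = z) : Sympl (⟨z, hLz⟩ : fixSub L) :=
  hS.sub (show z ∈ fixSub L from hLz) fun x hx hc => hS.nondeg x fun y => by
    obtain ⟨n, hn, hsgn, -⟩ := exists_norm hS L hodd hLz y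
    have h1 : sgn hS x n = 1 := (sgn_eq_one_iff hS).mpr (hc n hn).symm
    rw [hsgn x hx, sgn_eq_one_iff] at h1
    exact h1.symm

/-- **Splitting off** a commuting family. -/
theorem split_family {ι : Type*} [Finite ι] (hS : Sympl z) (G : ι → Subgroup E) (hz : ∀ i, z ∈ G i)
    [Nonempty ι]
    (hcomm : ∀ i j, i ≠ j → ∀ x ∈ G i, ∀ y ∈ G j, x * y = y * x)
    (hproj : ∀ i e, ∃ n ∈ G i, ∀ y ∈ G i, sgn hS y n = sgn hS y e) :
    (∀ x ∈ iSup G, (∀ y ∈ iSup G, x * y = y * x) → x = 1 ∨ x = z) ∧
      (∀ x ∈ centralizer ((iSup G : Subgroup E) : Set E), (∀ y ∈ centralizer ((iSup G : Subgroup E) : Set E), x * y = y * x) →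
        x = 1 ∨ x = z) ∧
      iSup G ⊔ centralizer ((iSup G : Subgroup E) : Set E) = ⊤ := by
  classical
  have := Fintype.ofFinite ι
  set F := iSup G
  have key : ∀ e, ∃ f ∈ F, e * f⁻¹ ∈ centralizer (F : Set E) := by
    intro e
    suffices ∀ S : Finset ι, ∃ f ∈ F, ∀ i, ∀ y ∈ G i,
        sgn hS y f = if i ∈ S then sgn hS y e else 1 by
      obtain ⟨f, hf, hsgn⟩ := this Finset.univ
      refine ⟨f, hf, ?_⟩
      have hle : F ≤ centralizer ({e * f⁻¹} : Set E) := iSup_le fun i y hy => by
        rw [mem_centralizer_singleton_iff]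
        have : sgn hS y (e * f⁻¹) = 1 := by
          rw [map_mul, sgn_inv, hsgn i y hy, if_pos (Finset.mem_univ _), ← pow_two, Int.units_sq]
        exact ((sgn_eq_one_iff hS).mp this).symm
      exact mem_centralizer_iff.mpr fun y hy => mem_centralizer_singleton_iff.mp (hle hy)
    intro S
    induction S using Finset.induction_on with
    | empty => exact ⟨1, one_mem _, fun i y _ => by simp⟩
    | insert a S ha ih =>
      obtain ⟨f, hf, hsgn⟩ := ih
      obtain ⟨n, hn, hns⟩ := hproj a e
      refine ⟨f * n, mul_mem hf (mem_iSup_of_mem a hn), fun i y hy => ?_⟩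
      rw [map_mul, hsgn i y hy]
      by_cases hia : i = a
      · subst hia
        rw [if_neg ha, one_mul, hns y hy, if_pos (Finset.mem_insert_self _ _)]
      · rw [(sgn_eq_one_iff hS).mpr (hcomm a i (Ne.symm hia) n hn y hy), mul_one]
        simp [Finset.mem_insert, hia]
  have hzF : z ∈ F := mem_iSup_of_mem (Classical.arbitrary ι) (hz _)
  have h3 : F ⊔ centralizer (F : Set E) = ⊤ := eq_top_iff.mpr fun e _ => by
    obtain ⟨f, hf, he⟩ := key e
    rw [show e = e * f⁻¹ * f by group]
    exact mul_mem (mem_sup_right he) (mem_sup_left hf)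
  refine ⟨fun x hx hc => hS.nondeg x ?_, fun x hx hc => hS.nondeg x ?_, h3⟩
  · have : F ⊔ centralizer (F : Set E) ≤ centralizer ({x} : Set E) :=
      sup_le (fun y hy => mem_centralizer_singleton_iff.mpr (hc y hy).symm)
        fun y hy => mem_centralizer_singleton_iff.mpr (mem_centralizer_iff.mp hy x hx).symm
    rw [h3] at this
    exact fun y => (mem_centralizer_singleton_iff.mp (this (mem_top y))).symm
  · have : F ⊔ centralizer (F : Set E) ≤ centralizer ({x} : Set E) :=
      sup_le (fun y hy => mem_centralizer_singleton_iff.mpr (mem_centralizer_iff.mp hx y hy))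
        fun y hy => mem_centralizer_singleton_iff.mpr (hc y hy).symm
    rw [h3] at this
    exact fun y => (mem_centralizer_singleton_iff.mp (this (mem_top y))).symm

/-- A noncyclic abelian odd group of automorphisms has an element with a fixed element outside
`{1, z}`. -/
theorem exists_fixed (hS : Sympl z) (K : Subgroup (MulAut E)) (hodd : Odd (Nat.card K))
    (hKz : ∀ k ∈ K, k z = z) (hab : ∀ a ∈ K, ∀ b ∈ K, a * b = b * a) (hnc : ¬ IsCyclic K) :
    ∃ k ∈ K, k ≠ 1 ∧ ∃ x, x ≠ 1 ∧ x ≠ z ∧ k x = x := by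
  have := hS.normal
  letI := hS.commGroup
  have hK1 : K ≠ ⊥ := fun h => hnc (h ▸ isCyclic_of_subsingleton)
  have hnt : Nontrivial (E ⧸ zpowers z) := by
    by_contra h
    rw [not_nontrivial_iff_subsingleton] at h
    refine hK1 ((Subgroup.eq_bot_iff_forall _).mpr fun k hk => MulEquiv.ext fun x => ?_)
    rcases eq_mod hS (Subsingleton.elim (x : E ⧸ zpowers z) ((1 : E) : E ⧸ zpowers z)) with
      rfl | rfl
    · simp
    · simp [hKz k hk]
  have : IsMulCommutative K := ⟨⟨fun a b => Subtype.ext (hab a a.2 b b.2)⟩⟩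
  have hcop : (Nat.card K).Coprime (Nat.card (E ⧸ zpowers z)) := by
    obtain ⟨n, hn⟩ := (hS.isPGroup.to_quotient (zpowers z)).exists_card_eq
    rw [hn]
    exact Nat.Coprime.pow_right _ (Nat.coprime_two_right.mpr hodd)
  obtain ⟨k, hk, v, hv, hkv⟩ :=
    CfsgLib.Coprime.exists_ne_one_fixed_of_not_isCyclic (qAct K hKz) hcop hnc
  obtain ⟨x, rfl⟩ := QuotientGroup.mk_surjective v
  refine ⟨k, k.2, fun h => hk (Subtype.ext h), x, fun h => hv (by simp [h]), fun h => hv (by
    rw [QuotientGroup.eq_one_iff, h]; exact mem_zpowers z), ?_⟩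
  refine fix_of_fix_mod hS (hKz k k.2) (hodd.of_dvd_nat ?_) (eq_mod hS hkv)
  rw [Subgroup.orderOf_coe]
  exact orderOf_dvd_natCard k

end CfsgLib.BlockB.Dade
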