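import Mathlib.Analysis.SpecialFunctions.Complex.CircleAddChar
import Mathlib.LinearAlgebra.Trace
import Mathlib.LinearAlgebra.Determinant
import Mathlib.Analysis.Complex.Basic

/-!
# Spectral projections of an operator of order dividing `q` and the attached determinants
-/

namespace CfsgLib.BlockB.Dade

open Module Finset

universe v

variable {V : Type v} [AddCommGroup V] [Module ℂ V] {q : ℕ} [NeZero q]

/-- The power of `S` with exponent in `ZMod q`. -/
def pw (S : Module.End ℂ V) (i : ZMod q) : Module.End ℂ V := S ^ i.val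

theorem pw_zero (S : Module.End ℂ V) : pw S (0 : ZMod q) = 1 := by simp [pw]

theorem pow_eq_of_mod {S : Module.End ℂ V} (hS : S ^ q = 1) {a b : ℕ} (h : a % q = b % q) :
    S ^ a = S ^ b := by
  rw [← Nat.mod_add_div a q, ← Nat.mod_add_div b q, pow_add, pow_add, pow_mul, pow_mul, hS, one_pow,
    one_pow, h]

theorem pw_add {S : Module.End ℂ V} (hS : S ^ q = 1) (i j : ZMod q) :
    pw S (i + j) = pw S i * pw S j := by
  rw [pw, pw, pw, ← pow_add]
  exact pow_eq_of_mod hS (by rw [ZMod.val_add, Nat.mod_mod])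

/-- The spectral projection. -/
noncomputable def Pr (S : Module.End ℂ V) (a : ZMod q) : Module.End ℂ V :=
  (q : ℂ)⁻¹ • ∑ i : ZMod q, ZMod.stdAddChar (-(a * i)) • pw S i

theorem sum_stdAddChar_mul (b : ZMod q) :
    ∑ a : ZMod q, ZMod.stdAddChar (a * b) = if b = 0 then (q : ℂ) else 0 := by
  classical
  rw [AddChar.sum_mulShift b (ZMod.isPrimitive_stdAddChar q), ZMod.card]
  split_ifs <;> simp

theorem pw_mul_Pr {S : Module.End ℂ V} (hS : S ^ q = 1) (j a : ZMod q) :
    pw S j * Pr S a = ZMod.stdAddChar (a * j) • Pr S a := by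
  simp only [Pr, mul_smul_comm, Finset.mul_sum, Finset.smul_sum, smul_smul]
  refine Fintype.sum_equiv (Equiv.addLeft j) _ _ fun i => ?_
  simp only [Equiv.coe_addLeft, pw_add hS]
  congr 1
  rw [mul_left_comm, ← AddChar.map_add_eq_mul]
  congr 2
  ring

theorem sum_Pr (S : Module.End ℂ V) : ∑ a : ZMod q, Pr S a = 1 := by
  classical
  simp only [Pr, ← Finset.smul_sum]
  rw [Finset.sum_comm]
  simp only [← Finset.sum_smul, ← mul_neg, sum_stdAddChar_mul, neg_eq_zero, ite_smul, zero_smul]
  rw [Finset.sum_ite_eq' Finset.univ (0 : ZMod q), if_pos (Finset.mem_univ _), pw_zero, smul_smul,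
    inv_mul_cancel₀ (Nat.cast_ne_zero.mpr (NeZero.ne q)), one_smul]

theorem Pr_mul_Pr {S : Module.End ℂ V} (hS : S ^ q = 1) (a b : ZMod q) :
    Pr S a * Pr S b = if a = b then Pr S a else 0 := by
  classical
  nth_rw 1 [Pr]
  simp only [smul_mul_assoc, Finset.sum_mul, pw_mul_Pr hS, smul_smul, ← AddChar.map_add_eq_mul,
    ← Finset.sum_smul]
  rw [Finset.sum_congr rfl fun i _ => congr_arg ZMod.stdAddChar
    (show -(a * i) + b * i = i * (b - a) by ring), sum_stdAddChar_mul]
  by_cases h : a = b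
  · subst h
    simp [inv_mul_cancel₀ (show (q : ℂ) ≠ 0 from Nat.cast_ne_zero.mpr (NeZero.ne q))]
  · rw [if_neg (fun h0 => h (sub_eq_zero.mp h0).symm), if_neg h, mul_zero, zero_smul]

theorem pw_eq_sum {S : Module.End ℂ V} (hS : S ^ q = 1) (j : ZMod q) :
    pw S j = ∑ a : ZMod q, ZMod.stdAddChar (a * j) • Pr S a := by
  rw [← Finset.sum_congr rfl fun a _ => pw_mul_Pr hS j a, ← Finset.mul_sum, sum_Pr, mul_one]

theorem commute_Pr {S X : Module.End ℂ V} (h : Commute X S) (a : ZMod q) : Commute X (Pr S a) :=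
  (Commute.sum_right _ _ _ fun i _ => (h.pow_right i.val).smul_right _).smul_right _

variable [FiniteDimensional ℂ V]

/-- The multiplicity of the eigenvalue. -/
noncomputable def mult (S : Module.End ℂ V) (a : ZMod q) : ℕ :=
  finrank ℂ (LinearMap.range (Pr S a))

theorem trace_Pr {S : Module.End ℂ V} (hS : S ^ q = 1) (a : ZMod q) :
    LinearMap.trace ℂ V (Pr S a) = (mult S a : ℂ) := by
  have h : IsIdempotentElem (Pr S a) := by
    rw [IsIdempotentElem, Pr_mul_Pr hS, if_pos rfl]
  exact (LinearMap.IsIdempotentElem.isProj_range _ h).trace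

theorem sum_mult {S : Module.End ℂ V} (hS : S ^ q = 1) :
    ∑ a : ZMod q, mult S a = finrank ℂ V := by
  have h : (∑ a : ZMod q, (mult S a : ℂ)) = finrank ℂ V := by
    rw [← Finset.sum_congr rfl fun a _ => trace_Pr hS a, ← map_sum, sum_Pr, LinearMap.trace_one]
  exact_mod_cast h

theorem trace_pw {S : Module.End ℂ V} (hS : S ^ q = 1) (j : ZMod q) :
    LinearMap.trace ℂ V (pw S j) = ∑ a : ZMod q, ZMod.stdAddChar (a * j) * mult S a := by
  rw [pw_eq_sum hS, map_sum]
  exact Finset.sum_congr rfl fun a _ => by rw [map_smul, trace_Pr hS, smul_eq_mul]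

theorem det_scalar_Pr {S : Module.End ℂ V} (hS : S ^ q = 1) (a : ZMod q) (c : ℂ) :
    LinearMap.det (c • Pr S a + (1 - Pr S a)) = c ^ mult S a := by
  have h : IsIdempotentElem (Pr S a) := by
    rw [IsIdempotentElem, Pr_mul_Pr hS, if_pos rfl]
  have hp := LinearMap.IsIdempotentElem.isProj_range _ h
  let e := Submodule.prodEquivOfIsCompl (LinearMap.range (Pr S a)) (LinearMap.ker (Pr S a)) hp.isCompl
  have he : c • Pr S a + (1 - Pr S a) =
      (e : _ →ₗ[ℂ] V) ∘ₗ
        LinearMap.prodMap (c • (LinearMap.id : LinearMap.range (Pr S a) →ₗ[ℂ] _))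
          (LinearMap.id : LinearMap.ker (Pr S a) →ₗ[ℂ] _) ∘ₗ (e.symm : V →ₗ[ℂ] _) := by
    rw [← LinearMap.comp_assoc, LinearEquiv.eq_comp_toLinearMap_symm]
    refine LinearMap.ext fun ⟨x, y⟩ => ?_
    simp only [LinearMap.comp_apply, LinearEquiv.coe_coe, e, Submodule.coe_prodEquivOfIsCompl',
      LinearMap.prodMap_apply, LinearMap.smul_apply, LinearMap.id_apply, LinearMap.add_apply,
      LinearMap.sub_apply, Module.End.one_apply, map_add, Submodule.coe_smul, hp.map_id _ x.2,
      LinearMap.mem_ker.mp y.2]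
    module
  rw [he, LinearMap.det_conj, LinearMap.det_prodMap, LinearMap.det_smul, LinearMap.det_id,
    mul_one, LinearMap.det_id, mul_one]
  rfl

/-- The determinant of an operator commuting with `S` on an eigenspace. -/
noncomputable def detOn (S : Module.End ℂ V) (a : ZMod q) (X : Module.End ℂ V) : ℂ :=
  LinearMap.det (X * Pr S a + (1 - Pr S a))

theorem cut_mul {S X Y : Module.End ℂ V} (hS : S ^ q = 1) (a : ZMod q) (hY : Commute Y S) :
    (X * Pr S a + (1 - Pr S a)) * (Y * Pr S a + (1 - Pr S a)) =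
      X * Y * Pr S a + (1 - Pr S a) := by
  have h1 : Pr S a * Pr S a = Pr S a := by rw [Pr_mul_Pr hS, if_pos rfl]
  have h2 : Pr S a * Y = Y * Pr S a := (commute_Pr hY a).eq.symm
  calc (X * Pr S a + (1 - Pr S a)) * (Y * Pr S a + (1 - Pr S a))
      = X * (Pr S a * Y) * Pr S a + X * Pr S a - X * (Pr S a * Pr S a) + Y * Pr S a
          - (Pr S a * Y) * Pr S a + (1 - Pr S a) - Pr S a + Pr S a * Pr S a := by
        noncomm_ring
    _ = X * Y * Pr S a + (1 - Pr S a) := by
        rw [h2, h1]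
        simp only [mul_assoc, h1]
        abel

theorem detOn_mul {S X Y : Module.End ℂ V} (hS : S ^ q = 1) (a : ZMod q) (hY : Commute Y S) :
    detOn S a (X * Y) = detOn S a X * detOn S a Y := by
  rw [detOn, detOn, detOn, ← map_mul, cut_mul hS a hY]

theorem detOn_one (S : Module.End ℂ V) (a : ZMod q) : detOn S a 1 = 1 := by
  simp [detOn]

theorem detOn_smul_one {S : Module.End ℂ V} (hS : S ^ q = 1) (a : ZMod q) (c : ℂ) :
    detOn S a (c • (1 : Module.End ℂ V)) = c ^ mult S a := by
  rw [detOn, smul_mul_assoc, one_mul, det_scalar_Pr hS]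

end CfsgLib.BlockB.Dade
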