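import Cfsg.Agent.Lib.BlockB.Dade.Lift
import Cfsg.Agent.Lib.BlockB.Dade.Decomp
import Cfsg.Agent.Lib.BlockB.Dade.Spectral
import Mathlib.RingTheory.IntegralDomain

/-!
# The case of a fixed-point-free automorphism of odd prime order

If `k` has prime order `q ≠ 2` and no nontrivial power of it fixes anything outside `{1, z}`, then any
2-group of automorphisms normalising `⟨k⟩` lifts.
-/

namespace CfsgLib.BlockB.Dade

open Module Finset CfsgLib.Clifford

universe u w

variable {E : Type u} [Group E] {z : E}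
variable {V : Type} [AddCommGroup V] [Module ℂ V] [FiniteDimensional ℂ V]

theorem eq_one_of_coprime_pow {M : Type*} [Monoid M] {c : M} {m n : ℕ} (h1 : c ^ m = 1)
    (h2 : c ^ n = 1) (h : m.Coprime n) : c = 1 := by
  have := pow_gcd_eq_one.mpr ⟨h1, h2⟩
  rwa [h.gcd_eq_one, pow_one] at this

theorem exists_root_mem {m o : ℕ} (h : m.Coprime o) {s : ℂˣ} (hs : s ^ m = 1) :
    ∃ u : ℂˣ, u ^ o = s⁻¹ ∧ u ^ m = 1 := by
  obtain ⟨x, y, hxy⟩ : IsCoprime (m : ℤ) o := Int.isCoprime_iff_gcd_eq_one.mpr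
    (by simpa [Int.gcd_natCast_natCast] using h)
  have h1 : s ^ (m : ℤ) = 1 := by rw [zpow_natCast, hs]
  refine ⟨s ^ (-y), ?_, ?_⟩
  · rw [← zpow_natCast, ← zpow_mul, ← zpow_neg_one,
      show -y * (o : ℤ) = (m : ℤ) * x + (-1) by linear_combination -hxy, zpow_add, zpow_mul, h1,
      one_zpow, one_mul]
  · rw [← zpow_natCast, ← zpow_mul, mul_comm, zpow_mul, h1, one_zpow]

/-- The determinant of a unit. -/
noncomputable def detU : (Module.End ℂ V)ˣ →* ℂˣ := Units.map LinearMap.det

theorem detU_scalar (c : ℂˣ) : detU (scalarUnits (V := V) c) = c ^ finrank ℂ V := by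
  refine Units.ext ?_
  simp [detU, Algebra.algebraMap_eq_smul_one, Module.End.one_eq_id]

/-- `X` implements `α` in `σ`. -/
def Impl (σ : Representation ℂ E V) (α : MulAut E) (X : (Module.End ℂ V)ˣ) : Prop :=
  ∀ e, (X : Module.End ℂ V) * σ e = σ (α e) * X

variable {σ : Representation ℂ E V}

omit [FiniteDimensional ℂ V] in
theorem Impl.mul {α β : MulAut E} {X Y : (Module.End ℂ V)ˣ} (hX : Impl σ α X) (hY : Impl σ β Y) :
    Impl σ (α * β) (X * Y) := fun e => by
  rw [Units.val_mul, mul_assoc, hY, ← mul_assoc, hX, mul_assoc, MulAut.mul_apply]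

omit [FiniteDimensional ℂ V] in
theorem Impl.inv {α : MulAut E} {X : (Module.End ℂ V)ˣ} (hX : Impl σ α X) :
    Impl σ α⁻¹ X⁻¹ := fun e => by
  rw [Units.inv_mul_eq_iff_eq_mul, ← mul_assoc, hX, MulAut.apply_inv_self, mul_assoc,
    Units.mul_inv, mul_one]

omit [FiniteDimensional ℂ V] in
theorem impl_one : Impl σ (1 : MulAut E) (1 : (Module.End ℂ V)ˣ) := fun e => by simp

omit [FiniteDimensional ℂ V] in
theorem Impl.pow {α : MulAut E} {X : (Module.End ℂ V)ˣ} (hX : Impl σ α X) :
    ∀ n : ℕ, Impl σ (α ^ n) (X ^ n)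
  | 0 => impl_one
  | n + 1 => by rw [pow_succ, pow_succ]; exact (hX.pow n).mul hX

omit [FiniteDimensional ℂ V] in
theorem Impl.smul {α : MulAut E} {X : (Module.End ℂ V)ˣ} (hX : Impl σ α X) (c : ℂˣ) :
    Impl σ α (scalarUnits c * X) := fun e => by
  simp only [Units.val_mul, scalarUnits, Units.coe_map, MonoidHom.coe_coe]
  rw [mul_assoc, hX, ← mul_assoc, ← mul_assoc]
  congr 1
  exact Algebra.commutes _ _

/-- The trace identity. -/
theorem trace_mul_trace [Fintype E] (hS : Sympl z) [σ.IsIrreducible] (hσ : σ z = -1) {α : MulAut E}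
    (hαz : α z = z) (hfix : ∀ e, α e = e ∨ α e = z * e → e = 1 ∨ e = z) {X : (Module.End ℂ V)ˣ}
    (hX : Impl σ α X) :
    LinearMap.trace ℂ V (X : Module.End ℂ V) *
      LinearMap.trace ℂ V ((X⁻¹ : (Module.End ℂ V)ˣ) : Module.End ℂ V) = 1 := by
  classical
  have := Char.nontrivial_of_isIrreducible σ
  have hd : (finrank ℂ V : ℂ) ≠ 0 := Nat.cast_ne_zero.mpr Module.finrank_pos.ne'
  have hn : (Fintype.card E : ℂ) ≠ 0 := Nat.cast_ne_zero.mpr Fintype.card_ne_zero
  have h := congr_arg (fun Y => LinearMap.trace ℂ V (Y * ((X⁻¹ : (Module.End ℂ V)ˣ) : Module.End ℂ V)))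
    (sum_conj_smul σ (X : Module.End ℂ V))
  simp only [Finset.sum_mul, map_sum, smul_mul_assoc, one_mul, map_smul, smul_eq_mul] at h
  have hterm : ∀ e : E, σ e * (X : Module.End ℂ V) * σ e⁻¹ *
      ((X⁻¹ : (Module.End ℂ V)ˣ) : Module.End ℂ V) = σ (e * α e⁻¹) := fun e => by
    rw [mul_assoc (σ e), hX, ← mul_assoc, ← map_mul, mul_assoc, Units.mul_inv, mul_one]
  simp only [hterm] at h
  rw [Fintype.sum_eq_add 1 z hS.ne_one.symm fun e he => ?_] at h
  · simp only [inv_one, map_one, mul_one, hS.inv_eq, hαz, hS.sq, LinearMap.trace_one] at h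
    field_simp at h
    have hsq := two_mul_sq hS hσ
    refine mul_left_cancel₀ hn ?_
    linear_combination -h + hsq
  · refine trace_eq_zero hS hσ (fun h1 => ?_) (fun h1 => ?_)
    · rw [map_inv, mul_inv_eq_one] at h1
      exact (hfix e (Or.inl h1.symm)).elim he.1 he.2
    · rw [map_inv, mul_inv_eq_iff_eq_mul] at h1
      refine (hfix e (Or.inr ?_)).elim he.1 he.2
      conv_rhs => rw [h1, ← mul_assoc, hS.sq, one_mul]

/-- The value distribution forced by the trace identity. -/
theorem almost_constant {ι : Type*} [Fintype ι] [DecidableEq ι] (m : ι → ℤ)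
    (h : ∑ a, ∑ b, (m a - m b) ^ 2 = 2 * ((Fintype.card ι : ℤ) - 1)) {a0 b0 : ι}
    (hne : m a0 ≠ m b0) :
    ∃ c, ∀ a, a ≠ c → ∀ b, b ≠ c → m a = m b ∧ (m c - m a = 1 ∨ m c - m a = -1) := by
  have hab : a0 ≠ b0 := fun h => hne (h ▸ rfl)
  set D := (m a0 - m b0) ^ 2 with hD
  have hD1 : 1 ≤ D := by
    have : m a0 - m b0 ≠ 0 := sub_ne_zero.mpr hne
    have := sq_pos_of_ne_zero this
    omega
  let T : ι → ℤ := fun c => (m c - m a0) ^ 2 + (m c - m b0) ^ 2
  have hT1 : ∀ c, 1 ≤ T c := fun c => by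
    by_contra hc
    push Not at hc
    have h1 : (m c - m a0) ^ 2 = 0 := by
      have := sq_nonneg (m c - m a0); have := sq_nonneg (m c - m b0)
      simp only [T] at hc; omega
    have h2 : (m c - m b0) ^ 2 = 0 := by
      have := sq_nonneg (m c - m a0); have := sq_nonneg (m c - m b0)
      simp only [T] at hc; omega
    rw [pow_eq_zero_iff two_ne_zero, sub_eq_zero] at h1 h2
    exact hne (h1.symm.trans h2)
  -- the pairs through a0 and b0
  have hlow : ∑ c, T c + ∑ c ∈ (Finset.univ.erase a0).erase b0, T c ≤ ∑ a, ∑ b, (m a - m b) ^ 2 := by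
    rw [← Finset.add_sum_erase Finset.univ (fun a => ∑ b, (m a - m b) ^ 2) (Finset.mem_univ a0),
      ← Finset.add_sum_erase (Finset.univ.erase a0) (fun a => ∑ b, (m a - m b) ^ 2)
        (Finset.mem_erase.mpr ⟨hab.symm, Finset.mem_univ b0⟩), ← add_assoc]
    refine add_le_add (le_of_eq ?_) (Finset.sum_le_sum fun c _ => ?_)
    · simp only [T, Finset.sum_add_distrib]
      congr 1 <;> exact Finset.sum_congr rfl fun b _ => by ring
    · simp only [T]
      rw [← Finset.sum_pair (f := fun b => (m c - m b) ^ 2) hab]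
      exact Finset.sum_le_sum_of_subset_of_nonneg (Finset.subset_univ _) fun b _ _ => sq_nonneg _
  set R := (Finset.univ.erase a0).erase b0
  have hR : (R.card : ℤ) = (Fintype.card ι : ℤ) - 2 := by
    simp only [R, Finset.card_erase_of_mem (Finset.mem_erase.mpr ⟨hab.symm, Finset.mem_univ b0⟩ :
      b0 ∈ Finset.univ.erase a0), Finset.card_erase_of_mem (Finset.mem_univ a0), Finset.card_univ]
    have : 1 < Fintype.card ι := Fintype.one_lt_card_iff.mpr ⟨a0, b0, hab⟩
    omega
  have hsum : ∑ c, T c = T a0 + (T b0 + ∑ c ∈ R, T c) := by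
    rw [← Finset.add_sum_erase Finset.univ T (Finset.mem_univ a0),
      ← Finset.add_sum_erase (Finset.univ.erase a0) T
        (Finset.mem_erase.mpr ⟨hab.symm, Finset.mem_univ b0⟩)]
  have hTa : T a0 = D := by simp [T, hD]
  have hTb : T b0 = D := by
    simp only [T, hD, sub_self, ne_eq, OfNat.ofNat_ne_zero, not_false_eq_true, zero_pow, add_zero]
    ring
  have hRlow : (R.card : ℤ) ≤ ∑ c ∈ R, T c := by
    simpa using Finset.card_nsmul_le_sum R T 1 fun c _ => hT1 c
  have hDle : D = 1 := by nlinarith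
  have hRall : ∀ c ∈ R, T c = 1 := by
    intro c hc
    by_contra hc1
    have : (R.card : ℤ) < ∑ d ∈ R, T d := by
      have := Finset.sum_lt_sum (f := fun _ => (1 : ℤ)) (g := T) (fun d (_ : d ∈ R) => hT1 d)
        ⟨c, hc, lt_of_le_of_ne (hT1 c) (Ne.symm hc1)⟩
      simpa using this
    nlinarith
  have hval : ∀ c, m c = m a0 ∨ m c = m b0 := by
    intro c
    by_cases h1 : c = a0
    · exact Or.inl (h1 ▸ rfl)
    by_cases h2 : c = b0
    · exact Or.inr (h2 ▸ rfl)
    have := hRall c (Finset.mem_erase.mpr ⟨h2, Finset.mem_erase.mpr ⟨h1, Finset.mem_univ c⟩⟩)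
    simp only [T] at this
    by_contra hc
    push Not at hc
    have h3 := sq_pos_of_ne_zero (sub_ne_zero.mpr hc.1)
    have h4 := sq_pos_of_ne_zero (sub_ne_zero.mpr hc.2)
    omega
  -- the two level sets
  set A := Finset.univ.filter fun a => m a = m a0
  set B := Finset.univ.filter fun a => ¬ m a = m a0
  have hAB : A.card + B.card = Fintype.card ι :=
    Finset.card_filter_add_card_filter_not (fun a => m a = m a0)
  have hD' : (m a0 - m b0) ^ 2 = 1 := hDle
  have hD'' : (m b0 - m a0) ^ 2 = 1 := by rw [← hD']; ring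
  have hcount : ∑ a, ∑ b, (m a - m b) ^ 2 = 2 * (A.card * B.card : ℤ) := by
    have : ∀ a b, (m a - m b) ^ 2 = (if m a = m a0 then 1 else 0) * (if ¬ m b = m a0 then 1 else 0) +
        (if ¬ m a = m a0 then 1 else 0) * (if m b = m a0 then 1 else 0) := by
      intro a b
      rcases hval a with ha | ha <;> rcases hval b with hb | hb <;>
        simp [ha, hb, hne.symm, hD', hD'']
    simp only [this, Finset.sum_add_distrib, ← Finset.mul_sum, ← Finset.sum_mul,
      Finset.sum_boole]
    simp only [A, B]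
    ring
  rw [hcount] at h
  have hcard : ((A.card : ℤ) - 1) * ((B.card : ℤ) - 1) = 0 := by
    have : ((A.card : ℤ) + B.card) = Fintype.card ι := by exact_mod_cast hAB
    nlinarith [h, this]
  rcases mul_eq_zero.mp hcard with h1 | h1
  · obtain ⟨c, hc⟩ := Finset.card_eq_one.mp (show A.card = 1 by omega)
    have hc' : ∀ a, m a = m a0 ↔ a = c := fun a => by
      simpa [A] using Finset.ext_iff.mp hc a
    have hc0 : a0 = c := (hc' a0).mp rfl
    refine ⟨c, fun a ha b hb => ?_⟩
    have ha' := (hval a).resolve_left (fun h => ha ((hc' a).mp h))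
    have hb' := (hval b).resolve_left (fun h => hb ((hc' b).mp h))
    refine ⟨ha'.trans hb'.symm, sq_eq_one_iff.mp ?_⟩
    rw [← hc0, ha', ← hD, hDle]
  · obtain ⟨c, hc⟩ := Finset.card_eq_one.mp (show B.card = 1 by omega)
    have hc' : ∀ a, ¬ m a = m a0 ↔ a = c := fun a => by
      simpa [B] using Finset.ext_iff.mp hc a
    have hb0 : b0 = c := (hc' b0).mp (Ne.symm hne)
    refine ⟨c, fun a ha b hb => ?_⟩
    have ha' : m a = m a0 := not_not.mp fun h => ha ((hc' a).mp h)
    have hb' : m b = m a0 := not_not.mp fun h => hb ((hc' b).mp h)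
    refine ⟨ha'.trans hb'.symm, sq_eq_one_iff.mp ?_⟩
    rw [← hb0, ha', show (m b0 - m a0) ^ 2 = D by rw [hD]; ring, hDle]

/-- Operators of finite order with equal traces of all powers have equal determinants. -/
theorem det_eq_of_trace_eq {f g : Module.End ℂ V} {n : ℕ} (hn : 0 < n) (hf : f ^ n = 1)
    (hg : g ^ n = 1) (h : ∀ j : ℕ, LinearMap.trace ℂ V (f ^ j) = LinearMap.trace ℂ V (g ^ j)) :
    LinearMap.det f = LinearMap.det g := by
  classical
  have key : ∀ u : Module.End ℂ V, u ^ n = 1 → ∃ μs : Multiset ℂ, (∀ a ∈ μs, a ^ n = 1) ∧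
      LinearMap.det u = μs.prod ∧ ∀ a : ℂ, a ^ n = 1 →
        (n : ℂ) * μs.count a = ∑ j ∈ Finset.range n, a⁻¹ ^ j * LinearMap.trace ℂ V (u ^ j) := by
    intro u hu
    obtain ⟨ι, _, b, μ, hμ, hμn⟩ := Char.exists_eigenbasis u hn hu
    refine ⟨Finset.univ.val.map μ, fun a ha => ?_, ?_, fun a ha => ?_⟩
    · obtain ⟨i, -, rfl⟩ := Multiset.mem_map.mp ha
      exact hμn i
    · rw [← LinearMap.det_toMatrix b, show LinearMap.toMatrix b b u = Matrix.diagonal μ from
        Matrix.ext fun i j => by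
          rw [LinearMap.toMatrix_apply, hμ]
          by_cases hij : i = j
          · subst hij; simp
          · simp [Matrix.diagonal, hij, Finsupp.single_eq_of_ne hij], Matrix.det_diagonal]
      rfl
    · have hpow : ∀ (j : ℕ) i, (u ^ j) (b i) = μ i ^ j • b i := by
        intro j i
        induction j with
        | zero => simp
        | succ j ih => rw [pow_succ', Module.End.mul_apply, ih, map_smul, hμ, smul_smul, pow_succ]
      simp only [fun j => Char.trace_eq_sum_eigen b (u ^ j) _ (hpow j), Finset.mul_sum]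
      rw [Finset.sum_comm, Multiset.count_map]
      have ha0 : a ≠ 0 := fun h0 => by simp [h0, zero_pow hn.ne'] at ha
      have hgeo : ∀ i, ∑ j ∈ Finset.range n, a⁻¹ ^ j * μ i ^ j = if a = μ i then (n : ℂ) else 0 := by
        intro i
        simp only [← mul_pow]
        split_ifs with hi
        · simp [← hi, ha0]
        · have h1 : a⁻¹ * μ i ≠ 1 := fun h1 => hi (by rw [inv_mul_eq_one₀ ha0] at h1; exact h1)
          rw [geom_sum_eq h1, mul_pow, inv_pow, ha, hμn, inv_one, one_mul, sub_self, zero_div]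
      simp only [hgeo]
      rw [← Finset.sum_filter, Finset.sum_const, nsmul_eq_mul, mul_comm, ← Finset.filter_val]
      rfl
  obtain ⟨Mf, hfn, hfd, hfc⟩ := key f hf
  obtain ⟨Mg, hgn, hgd, hgc⟩ := key g hg
  rw [hfd, hgd]
  congr 1
  refine Multiset.ext.mpr fun a => ?_
  by_cases ha : a ^ n = 1
  · have h1 := hfc a ha
    simp only [h, ← hgc a ha] at h1
    exact_mod_cast mul_left_cancel₀ (Nat.cast_ne_zero.mpr hn.ne') h1
  · rw [Multiset.count_eq_zero.mpr fun h1 => ha (hfn a h1),
      Multiset.count_eq_zero.mpr fun h1 => ha (hgn a h1)]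

section Lift

variable {q : ℕ} [hq : Fact q.Prime]

/-- Operators implementing powers of `k`, of order dividing `q` with determinant `1`, are unique. -/
theorem impl_unique [σ.IsIrreducible] {α : MulAut E} (hd : q.Coprime (finrank ℂ V))
    {X Y : (Module.End ℂ V)ˣ} (hX : Impl σ α X) (hY : Impl σ α Y) (hXq : X ^ q = 1) (hYq : Y ^ q = 1)
    (hXd : detU X = 1) (hYd : detU Y = 1) : X = Y := by
  obtain ⟨c, rfl⟩ := exists_scalar_mul σ α hX hY
  have := Char.nontrivial_of_isIrreducible σ
  rw [(show Commute (scalarUnits c) Y from scalarUnits_comm c Y).mul_pow, hYq, mul_one, ← map_pow,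
    ← map_one (scalarUnits (V := V))] at hXq
  rw [map_mul, hYd, mul_one, detU_scalar] at hXd
  rw [eq_one_of_coprime_pow (scalarUnits_injective hXq) hXd hd, map_one, one_mul]

omit [FiniteDimensional ℂ V] in
/-- The `E`-side hypothesis for the trace identity. -/
theorem fix_cases (hS : Sympl z) {k β : MulAut E} (hord : orderOf k = q)
    (hfix : ∀ e, k e = e → e = 1 ∨ e = z) (hq2 : q ≠ 2) {N : ℕ} (hN2 : ∃ r, N = 2 ^ r)
    (hβN : β ^ N = 1) (hcomm : Commute β k) (hβz : β z = z) (hkz : k z = z) {i : ℕ}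
    (hi : ¬ q ∣ i) (e : E) (h : (β * k ^ i) e = e ∨ (β * k ^ i) e = z * e) : e = 1 ∨ e = z := by
  set γ := β * k ^ i with hγ
  have hγz : γ z = z := by
    have : ∀ j : ℕ, (k ^ j) z = z := fun j =>
      (show k ^ j ∈ MulAction.stabilizer (MulAut E) z from pow_mem hkz j)
    rw [hγ, MulAut.mul_apply, this, hβz]
  have h2 : (γ * γ) e = e := by
    rw [MulAut.mul_apply]
    rcases h with h | h
    · rw [h, h]
    · rw [h, map_mul, hγz, h, ← mul_assoc, hS.sq, one_mul]
  have h3 : ((γ * γ) ^ N) e = e :=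
    (show (γ * γ) ^ N ∈ MulAction.stabilizer (MulAut E) e from pow_mem h2 N)
  have h4 : (γ * γ) ^ N = k ^ (2 * i * N) := by
    rw [← pow_two, ← pow_mul, mul_comm 2 N, pow_mul, hγ, (hcomm.pow_right i).mul_pow, hβN, one_mul,
      ← pow_mul, ← pow_mul]
    congr 1
    ring
  have hcop : (2 * i * N).Coprime q := by
    obtain ⟨r, rfl⟩ := hN2
    have h2q : (2 : ℕ).Coprime q := (Nat.coprime_primes Nat.prime_two hq.out).mpr (Ne.symm hq2)
    have hiq : i.Coprime q := ((Nat.Prime.coprime_iff_not_dvd hq.out).mpr hi).symm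
    exact ((h2q.mul_left hiq).mul_left (h2q.pow_left r))
  obtain ⟨j, hj⟩ := exists_pow_eq_self_of_coprime (x := k) (by rw [hord]; exact hcop)
  refine hfix e ?_
  rw [← hj]
  exact (show (k ^ (2 * i * N)) ^ j ∈ MulAction.stabilizer (MulAut E) e from
    pow_mem (h4 ▸ h3 : k ^ (2 * i * N) ∈ MulAction.stabilizer (MulAut E) e) j)

theorem sum_pair_identity {ι : Type*} [Fintype ι] (f g : ι → ℂ) :
    ∑ a, ∑ b, (f a - f b) * (g a - g b) =
      2 * (Fintype.card ι : ℂ) * ∑ a, f a * g a - 2 * (∑ a, f a) * ∑ a, g a := by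
  have : ∀ a b, (f a - f b) * (g a - g b) = f a * g a + f b * g b - f a * g b - f b * g a :=
    fun a b => by ring
  simp only [this, Finset.sum_add_distrib, Finset.sum_sub_distrib, Finset.sum_const,
    Finset.card_univ, nsmul_eq_mul, ← Finset.mul_sum, ← Finset.sum_mul]
  ring

theorem sum_trace_pairs (S X Y : Module.End ℂ V) (hS : S ^ q = 1) :
    ∑ j : ZMod q, LinearMap.trace ℂ V (X * pw S j) * LinearMap.trace ℂ V (Y * pw S (-j)) =
      (q : ℂ) * ∑ a : ZMod q, LinearMap.trace ℂ V (X * Pr S a) *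
        LinearMap.trace ℂ V (Y * Pr S a) := by
  classical
  simp only [pw_eq_sum hS, Finset.mul_sum, map_sum, Finset.sum_mul, mul_smul_comm, map_smul,
    smul_eq_mul]
  rw [Finset.sum_comm]
  refine Finset.sum_congr rfl fun a _ => ?_
  rw [Finset.sum_comm]
  have : ∀ b : ZMod q, ∑ j : ZMod q, ZMod.stdAddChar (b * j) * LinearMap.trace ℂ V (X * Pr S b) *
      (ZMod.stdAddChar (a * -j) * LinearMap.trace ℂ V (Y * Pr S a)) =
      (∑ j : ZMod q, ZMod.stdAddChar (j * (b - a))) *
        (LinearMap.trace ℂ V (X * Pr S b) * LinearMap.trace ℂ V (Y * Pr S a)) := fun b => by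
    rw [Finset.sum_mul]
    refine Finset.sum_congr rfl fun j _ => ?_
    rw [show j * (b - a) = b * j + a * -j by ring, AddChar.map_add_eq_mul]
    ring
  simp only [this, sum_stdAddChar_mul, sub_eq_zero, ite_mul, zero_mul]
  rw [Finset.sum_ite_eq' Finset.univ a, if_pos (Finset.mem_univ a)]

/-- **The base case.** -/
theorem hasLift_base {P : Type w} [Group P] [Finite E] [Finite P] (hP : IsPGroup 2 P) (hS : Sympl z)
    (hq2 : q ≠ 2) (k : MulAut E) (hord : orderOf k = q) (hfix : ∀ e, k e = e → e = 1 ∨ e = z)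
    (hkz : k z = z) (φ : P →* MulAut E) (hφz : ∀ t, φ t z = z)
    (hnorm : ∀ t, φ t * k * (φ t)⁻¹ ∈ Subgroup.zpowers k) : HasLift z φ := by
  classical
  intro V _ _ _ σ hσi hσ
  have := Fintype.ofFinite E
  have := Fintype.ofFinite P
  have := Char.nontrivial_of_isIrreducible σ
  have : NeZero q := ⟨hq.out.ne_zero⟩
  set d := finrank ℂ V with hdd
  have hdpos : 0 < d := Module.finrank_pos
  -- the degree is a power of two, at least two
  have hE : 2 * d ^ 2 = Nat.card E := by
    have := two_mul_sq hS hσ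
    rw [Nat.card_eq_fintype_card]
    exact_mod_cast this
  obtain ⟨n, hn⟩ : ∃ n, d = 2 ^ (n + 1) := by
    obtain ⟨r, hr⟩ := hS.isPGroup.exists_card_eq
    rw [hr] at hE
    have h1 : d ^ 2 ∣ 2 ^ r := ⟨2, by rw [← hE]; ring⟩
    obtain ⟨n, -, hn⟩ := (Nat.dvd_prime_pow Nat.prime_two).mp ((dvd_pow_self d two_ne_zero).trans h1)
    rcases n with _ | n
    · exfalso
      have hcard : Nat.card E = 2 := by rw [hr, ← hE, hn]; norm_num
      have : ∀ e : E, e = 1 ∨ e = z := by
        intro e
        by_contra hc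
        push Not at hc
        have h3 : ({1, z, e} : Finset E).card ≤ 2 := by
          rw [← hcard, Nat.card_eq_fintype_card]; exact Finset.card_le_univ _
        rw [Finset.card_insert_of_notMem (by simp [hS.ne_one.symm, hc.1.symm]),
          Finset.card_pair (Ne.symm hc.2)] at h3
        omega
      have : k = 1 := MulEquiv.ext fun e => by
        rcases this e with rfl | rfl <;> simp [hkz]
      rw [this, orderOf_one] at hord
      exact hq.out.one_lt.ne hord
    · exact ⟨n, hn⟩
  have hqd : q.Coprime d := by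
    rw [hn]
    exact Nat.Coprime.pow_right _ ((Nat.coprime_primes hq.out Nat.prime_two).mpr hq2)
  -- the canonical implementation of `k`
  obtain ⟨S, hSi, hSq, hSd⟩ : ∃ S : (Module.End ℂ V)ˣ, Impl σ k S ∧ S ^ q = 1 ∧ detU S = 1 := by
    obtain ⟨A, hA⟩ := exists_intertwiner hS hσ k hkz
    have h1 : Impl σ 1 (A ^ q) := by
      rw [show (1 : MulAut E) = k ^ q by rw [← hord, pow_orderOf_eq_one]]
      exact Impl.pow hA q
    obtain ⟨c, hc⟩ := exists_scalar_mul σ 1 h1 impl_one
    rw [mul_one] at hc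
    obtain ⟨w, hw⟩ := IsAlgClosed.exists_pow_nat_eq ((c⁻¹ : ℂˣ) : ℂ) hq.out.pos
    have hw0 : w ≠ 0 := fun h => (c⁻¹).ne_zero (by rw [← hw, h, zero_pow hq.out.ne_zero])
    have hA1 : (scalarUnits (Units.mk0 w hw0) * A) ^ q = 1 := by
      rw [(show Commute (scalarUnits (Units.mk0 w hw0)) A from scalarUnits_comm _ _).mul_pow, hc,
        ← map_pow, ← map_mul, show Units.mk0 w hw0 ^ q = c⁻¹ from Units.ext hw, inv_mul_cancel,
        map_one]
    set B := scalarUnits (Units.mk0 w hw0) * A
    obtain ⟨u, hu1, hu2⟩ := exists_root_mem (s := detU B) hqd (by rw [← map_pow, hA1, map_one])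
    refine ⟨scalarUnits u * B, (Impl.smul hA _).smul u, ?_, ?_⟩
    · rw [(show Commute (scalarUnits u) B from scalarUnits_comm _ _).mul_pow, hA1, mul_one,
        ← map_pow, hu2, map_one]
    · rw [map_mul, detU_scalar, hu1, inv_mul_cancel]
  have hSe : (S : Module.End ℂ V) ^ q = 1 := by rw [← Units.val_pow_eq_pow_val, hSq, Units.val_one]
  set m : ZMod q → ℕ := fun a => mult (S : Module.End ℂ V) a with hm
  -- identity for commuting implementations
  have hpair : ∀ (β : MulAut E) (N : ℕ) (X : (Module.End ℂ V)ˣ), (∃ r, N = 2 ^ r) → β ^ N = 1 →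
      Commute β k → β z = z → Impl σ β X → Commute X S → ∀ j : ZMod q, j ≠ 0 →
      LinearMap.trace ℂ V ((X : Module.End ℂ V) * pw (S : Module.End ℂ V) j) *
        LinearMap.trace ℂ V (((X⁻¹ : (Module.End ℂ V)ˣ) : Module.End ℂ V) *
          pw (S : Module.End ℂ V) (-j)) = 1 := by
    intro β N X hN hβN hcomm hβz hX hXS j hj
    have hji : ¬ q ∣ j.val := fun h => hj (ZMod.val_eq_zero j |>.mp
      (Nat.eq_zero_of_dvd_of_lt h (ZMod.val_lt j)))
    have h1 := trace_mul_trace hS hσ (α := β * k ^ j.val)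
      (by
        have : (k ^ j.val) z = z :=
          (show k ^ j.val ∈ MulAction.stabilizer (MulAut E) z from pow_mem hkz _)
        rw [MulAut.mul_apply, this, hβz])
      (fix_cases hS hord hfix hq2 hN hβN hcomm hβz hkz hji) (hX.mul (hSi.pow j.val))
    have e1 : pw (S : Module.End ℂ V) j = ((S ^ j.val : (Module.End ℂ V)ˣ) : Module.End ℂ V) := by
      rw [pw, Units.val_pow_eq_pow_val]
    have e2 : pw (S : Module.End ℂ V) (-j) =
        (((S ^ j.val)⁻¹ : (Module.End ℂ V)ˣ) : Module.End ℂ V) := by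
      rw [inv_eq_of_mul_eq_one_right (a := S ^ j.val) (b := S ^ (-j).val) ?_]
      · rw [pw, Units.val_pow_eq_pow_val]
      · refine Units.ext ?_
        rw [Units.val_mul, Units.val_pow_eq_pow_val, Units.val_pow_eq_pow_val, Units.val_one]
        have := pw_add hSe j (-j)
        rw [add_neg_cancel, pw_zero] at this
        exact this.symm
    rw [e1, e2, ← Units.val_mul, ← Units.val_mul, ← mul_inv_rev (S ^ j.val) X,
      ← (hXS.pow_right j.val).eq]
    exact h1
  have hkey : ∀ (β : MulAut E) (N : ℕ) (X : (Module.End ℂ V)ˣ), (∃ r, N = 2 ^ r) → β ^ N = 1 →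
      Commute β k → β z = z → Impl σ β X → Commute X S →
      ∑ a : ZMod q, ∑ b : ZMod q,
        (LinearMap.trace ℂ V ((X : Module.End ℂ V) * Pr (S : Module.End ℂ V) a) -
          LinearMap.trace ℂ V ((X : Module.End ℂ V) * Pr (S : Module.End ℂ V) b)) *
        (LinearMap.trace ℂ V (((X⁻¹ : (Module.End ℂ V)ˣ) : Module.End ℂ V) * Pr (S : Module.End ℂ V) a) -
          LinearMap.trace ℂ V (((X⁻¹ : (Module.End ℂ V)ˣ) : Module.End ℂ V) * Pr (S : Module.End ℂ V) b)) =
        2 * ((q : ℂ) - 1) := by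
    intro β N X hN hβN hcomm hβz hX hXS
    have h := sum_trace_pairs (S : Module.End ℂ V) (X : Module.End ℂ V)
      ((X⁻¹ : (Module.End ℂ V)ˣ) : Module.End ℂ V) hSe
    rw [← Finset.add_sum_erase Finset.univ _ (Finset.mem_univ (0 : ZMod q)),
      Finset.sum_congr rfl fun j hj => hpair β N X hN hβN hcomm hβz hX hXS j (Finset.mem_erase.mp hj).1,
      Finset.sum_const, Finset.card_erase_of_mem (Finset.mem_univ _), Finset.card_univ, ZMod.card,
      nsmul_eq_mul, mul_one, neg_zero, pw_zero, mul_one, mul_one, Nat.cast_sub hq.out.one_lt.le,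
      Nat.cast_one] at h
    rw [sum_pair_identity, ZMod.card]
    simp only [← map_sum, ← Finset.mul_sum, sum_Pr, mul_one]
    linear_combination -2 * h
  have hzero := hkey 1 1 1 ⟨0, rfl⟩ (one_pow 1) (Commute.one_left k) rfl impl_one (Commute.one_left S)
  simp only [inv_one, Units.val_one, one_mul, trace_Pr hSe] at hzero
  -- the multiplicities
  have hmsum : ∑ a : ZMod q, ∑ b : ZMod q, ((m a : ℤ) - m b) ^ 2 =
      2 * ((Fintype.card (ZMod q) : ℤ) - 1) := by
    rw [ZMod.card]
    refine (Int.cast_inj (α := ℂ)).mp ?_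
    push_cast
    simp only [hm]
    rw [← hzero]
    simp only [pow_two]
  have hdsum : ∑ a : ZMod q, m a = d := sum_mult hSe
  obtain ⟨a0, b0, hne⟩ : ∃ a b : ZMod q, (m a : ℤ) ≠ m b := by
    by_contra hc
    push Not at hc
    have : d = q * m 0 := by
      rw [← hdsum, Finset.sum_congr rfl fun a _ => Int.natCast_inj.mp (hc a 0), Finset.sum_const,
        Finset.card_univ, ZMod.card, smul_eq_mul]
    exact absurd (Nat.Coprime.eq_one_of_dvd hqd ⟨_, this⟩) hq.out.one_lt.ne'
  obtain ⟨c0, hc0⟩ := almost_constant (fun a => (m a : ℤ)) hmsum hne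
  -- the exceptional one is zero
  have hsumid : ∑ a : ZMod q, a = 0 := by
    have h : (2 : ZMod q) * ∑ a : ZMod q, a = 0 := by
      rw [two_mul]
      nth_rw 1 [← Fintype.sum_equiv (Equiv.neg (ZMod q)) (fun a => -a) (fun a => a) fun a => rfl]
      rw [Finset.sum_neg_distrib, neg_add_cancel]
    refine (mul_eq_zero.mp h).resolve_left fun h2 => ?_
    rw [show (2 : ZMod q) = ((2 : ℕ) : ZMod q) by simp, ZMod.natCast_eq_zero_iff,
      Nat.prime_dvd_prime_iff_eq hq.out Nat.prime_two] at h2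
    exact hq2 h2
  have hdetS : ∑ a : ZMod q, a * (m a : ZMod q) = 0 := by
    refine ZMod.injective_stdAddChar ?_
    rw [AddChar.map_zero_eq_one, ← show LinearMap.det (S : Module.End ℂ V) = 1 from
      congr_arg Units.val hSd]
    -- the determinant as a product over the eigenspaces
    have hprod : ∀ T : Finset (ZMod q),
        LinearMap.det (∑ a ∈ T, ZMod.stdAddChar a • Pr (S : Module.End ℂ V) a +
          (1 - ∑ a ∈ T, Pr (S : Module.End ℂ V) a)) = ∏ a ∈ T, ZMod.stdAddChar a ^ m a := by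
      intro T
      induction T using Finset.induction_on with
      | empty => simp
      | insert b T hb ih =>
        rw [Finset.prod_insert hb, ← ih, ← det_scalar_Pr hSe b, ← map_mul]
        congr 1
        have h1 : ∀ a ∈ T, Pr (S : Module.End ℂ V) b * Pr (S : Module.End ℂ V) a = 0 := fun a ha => by
          rw [Pr_mul_Pr hSe, if_neg fun h => hb (by rw [h]; exact ha)]
        have hPA : Pr (S : Module.End ℂ V) b *
            (∑ a ∈ T, ZMod.stdAddChar a • Pr (S : Module.End ℂ V) a) = 0 := by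
          rw [Finset.mul_sum]
          exact Finset.sum_eq_zero fun a ha => by rw [mul_smul_comm, h1 a ha, smul_zero]
        have hPB : Pr (S : Module.End ℂ V) b * (∑ a ∈ T, Pr (S : Module.End ℂ V) a) = 0 := by
          rw [Finset.mul_sum]; exact Finset.sum_eq_zero h1
        rw [Finset.sum_insert hb, Finset.sum_insert hb]
        simp only [add_mul, sub_mul, mul_add, mul_sub, one_mul, mul_one, smul_mul_assoc, hPA, hPB,
          smul_zero]
        abel
    have := hprod Finset.univ
    rw [sum_Pr, sub_self, add_zero] at this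
    have hS1 : ∑ a : ZMod q, ZMod.stdAddChar a • Pr (S : Module.End ℂ V) a =
        (S : Module.End ℂ V) := by
      have h1 := pw_eq_sum hSe (1 : ZMod q)
      simp only [mul_one] at h1
      rw [← h1, pw, ZMod.val_one, pow_one]
    rw [hS1] at this
    rw [this, show (ZMod.stdAddChar (∑ a : ZMod q, a * (m a : ZMod q)) : ℂ) =
      ∏ a : ZMod q, ZMod.stdAddChar (a * (m a : ZMod q)) from
        map_prod (ZMod.stdAddChar (N := q)).toMonoidHom (fun a : ZMod q => Multiplicative.ofAdd (a * (m a : ZMod q))) _]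
    refine Finset.prod_congr rfl fun a _ => ?_
    rw [← AddChar.map_nsmul_eq_pow, nsmul_eq_mul, mul_comm]
  have hc0z : c0 = 0 := by
    obtain ⟨b1, hb1⟩ := exists_ne c0
    have h1 : ∀ a : ZMod q, a * (m a : ZMod q) =
        a * (m b1 : ZMod q) + if a = c0 then a * ((m c0 : ZMod q) - m b1) else 0 := fun a => by
      split_ifs with h
      · subst h; ring
      · rw [Int.natCast_inj.mp (hc0 a h b1 hb1).1, add_zero]
    rw [Finset.sum_congr rfl fun a _ => h1 a, Finset.sum_add_distrib, ← Finset.sum_mul, hsumid,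
      zero_mul, zero_add, Finset.sum_ite_eq' Finset.univ c0, if_pos (Finset.mem_univ _)] at hdetS
    refine (mul_eq_zero.mp hdetS).resolve_right fun h => ?_
    rcases (hc0 b1 hb1 b1 hb1).2 with h2 | h2
    · have := congr_arg (fun x : ℤ => (x : ZMod q)) h2
      push_cast at this
      rw [h] at this
      exact zero_ne_one this
    · have := congr_arg (fun x : ℤ => (x : ZMod q)) h2
      push_cast at this
      rw [h] at this
      exact one_ne_zero (neg_eq_zero.mp this.symm)
  subst hc0z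
  set M := m 1 with hMdef
  have hm1 : ∀ a : ZMod q, a ≠ 0 → m a = M := fun a ha =>
    Int.natCast_inj.mp (hc0 a ha 1 one_ne_zero).1
  have hModd : Odd M := by
    have h1 : d = m 0 + (q - 1) * M := by
      rw [← hdsum, ← Finset.add_sum_erase Finset.univ m (Finset.mem_univ 0),
        Finset.sum_congr rfl fun a ha => hm1 a (Finset.mem_erase.mp ha).1, Finset.sum_const,
        Finset.card_erase_of_mem (Finset.mem_univ _), Finset.card_univ, ZMod.card, smul_eq_mul]
    obtain ⟨r, hr⟩ := hq.out.odd_of_ne_two hq2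
    have h3 : q - 1 = 2 * r := by omega
    rw [h3, mul_assoc] at h1
    have hde : Even d := ⟨2 ^ n, by rw [hn, pow_succ]; ring⟩
    obtain ⟨s, hs⟩ := hde
    rw [Nat.odd_iff]
    have h4 := (hc0 1 one_ne_zero 1 one_ne_zero).2
    omega
  -- the centraliser of `k`
  let C : Subgroup P := (Subgroup.centralizer ({k} : Set (MulAut E))).comap φ
  have hC : ∀ x : P, x ∈ C ↔ φ x * k = k * φ x := fun x => by
    simp only [C, Subgroup.mem_comap, Subgroup.mem_centralizer_singleton_iff]
  obtain ⟨r0, hr0⟩ := hP.exists_card_eq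
  have hφN : ∀ x : P, φ x ^ 2 ^ r0 = 1 := fun x => by
    rw [← map_pow, ← hr0, pow_card_eq_one', map_one]
  have hXS : ∀ (x : P), x ∈ C → ∀ X : (Module.End ℂ V)ˣ, Impl σ (φ x) X → Commute X S := by
    intro x hx X hX
    have h1 : Impl σ k (X * S * X⁻¹) := by
      have := (hX.mul hSi).mul hX.inv
      rwa [(hC x).mp hx, mul_inv_cancel_right] at this
    have h2 : X * S * X⁻¹ = S := impl_unique hqd h1 hSi
      (by rw [conj_pow, hSq, mul_one, mul_inv_cancel]) hSq
      (by rw [map_mul, map_mul, map_inv, hSd, mul_one, mul_inv_cancel]) hSd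
    exact (mul_inv_eq_iff_eq_mul.mp h2)
  have hMcop : ∀ r : ℕ, M.Coprime (2 ^ r) := fun r =>
    Nat.Coprime.pow_right r (Nat.coprime_two_right.mpr hModd)
  -- normalised implementations
  let D : (Module.End ℂ V)ˣ → ℂ := fun X => detOn (S : Module.End ℂ V) (1 : ZMod q) (X : Module.End ℂ V)
  have hD1 : D 1 = 1 := detOn_one _ _
  have hDmul : ∀ X Y, Commute Y S → D (X * Y) = D X * D Y := fun X Y hY => by
    simp only [D, Units.val_mul]
    exact detOn_mul hSe 1 (hY.map (Units.coeHom _))
  have hDs : ∀ c : ℂˣ, D (scalarUnits c) = (c : ℂ) ^ M := fun c => by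
    simp only [D, hMdef, hm]
    rw [← detOn_smul_one hSe]
    congr 1
  let Nrm : P → (Module.End ℂ V)ˣ → Prop := fun x X =>
    Impl σ (φ x) X ∧ D X = 1 ∧ detU X ^ 2 ^ r0 = 1
  have hNuniq : ∀ x ∈ C, ∀ X Y, Nrm x X → Nrm x Y → X = Y := by
    rintro x hx X Y ⟨hX, hX1, hX2⟩ ⟨hY, hY1, hY2⟩
    obtain ⟨c, rfl⟩ := exists_scalar_mul σ (φ x) hX hY
    rw [hDmul _ _ (hXS x hx Y hY), hY1, mul_one, hDs] at hX1
    rw [map_mul, mul_pow, hY2, mul_one, detU_scalar, ← pow_mul] at hX2
    have hc : c = 1 := eq_one_of_coprime_pow (Units.ext (by simpa using hX1)) hX2 (by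
      rw [← hdd, hn, ← pow_add]; exact hMcop _)
    rw [hc, map_one, one_mul]
  have hNex : ∀ x ∈ C, ∃ X, Nrm x X := by
    intro x hx
    obtain ⟨A, hA⟩ := exists_intertwiner hS hσ (φ x) (hφz x)
    have hAS := hXS x hx A hA
    have hMpos : 0 < M := hModd.pos
    have hDA : IsUnit (D A) := by
      refine isUnit_iff_ne_zero.mpr fun h => ?_
      have := hDmul A⁻¹ A hAS
      rw [inv_mul_cancel, hD1, h, mul_zero] at this
      exact one_ne_zero this
    obtain ⟨w, hw⟩ := IsAlgClosed.exists_pow_nat_eq ((hDA.unit⁻¹ : ℂˣ) : ℂ) hMpos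
    have hw0 : w ≠ 0 := fun h => (hDA.unit⁻¹).ne_zero (by rw [← hw, h, zero_pow hMpos.ne'])
    set B := scalarUnits (Units.mk0 w hw0) * A with hB
    have hBi : Impl σ (φ x) B := Impl.smul hA _
    have hBS := hXS x hx B hBi
    have hBD : D B = 1 := by
      rw [hB, hDmul _ _ hAS, hDs, Units.val_mk0, hw]
      exact hDA.val_inv_mul
    have h1 : Impl σ 1 (B ^ 2 ^ r0) := by
      have := hBi.pow (2 ^ r0)
      rwa [hφN] at this
    obtain ⟨s, hs⟩ := exists_scalar_mul σ 1 h1 impl_one
    rw [mul_one] at hs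
    have hBpow : ∀ j : ℕ, D (B ^ j) = 1 := fun j => by
      induction j with
      | zero => rw [pow_zero, hD1]
      | succ j ih => rw [pow_succ, hDmul _ _ hBS, ih, hBD, one_mul]
    have hsM : s ^ M = 1 := by
      refine Units.ext ?_
      rw [Units.val_pow_eq_pow_val, ← hDs, ← hs, hBpow]; rfl
    obtain ⟨u, hu1, hu2⟩ := exists_root_mem (hMcop r0) hsM
    refine ⟨scalarUnits u * B, hBi.smul u, ?_, ?_⟩
    · rw [hDmul _ _ hBS, hDs, hBD, mul_one, ← Units.val_pow_eq_pow_val, hu2, Units.val_one]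
    · rw [← map_pow, (show Commute (scalarUnits u) B from scalarUnits_comm _ _).mul_pow, hs,
        ← map_pow, ← map_mul, hu1, inv_mul_cancel, map_one, map_one]
  choose Lf hLf using hNex
  let L : C →* (Module.End ℂ V)ˣ := MonoidHom.mk' (fun x => Lf x x.2) fun x y => by
    refine hNuniq _ (mul_mem x.2 y.2) _ _ (hLf _ _) ?_
    obtain ⟨hx1, hx2, hx3⟩ := hLf x x.2
    obtain ⟨hy1, hy2, hy3⟩ := hLf y y.2
    refine ⟨?_, ?_, ?_⟩
    · rw [map_mul]; exact hx1.mul hy1
    · rw [hDmul _ _ (hXS y y.2 _ hy1), hx2, hy2, one_mul]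
    · rw [map_mul, mul_pow, hx3, hy3, one_mul]
  have hL1 : ∀ x : C, Impl σ (φ x) (L x) := fun x => (hLf x x.2).1
  have hLD : ∀ x : C, D (L x) = 1 := fun x => (hLf x x.2).2.1
  have hLS : ∀ x : C, Commute (L x) S := fun x => hXS x x.2 _ (hL1 x)
  -- the representations on the eigenspaces
  let R : ZMod q → Representation ℂ C V := fun a =>
    { toFun := fun x => (L x : Module.End ℂ V) * Pr (S : Module.End ℂ V) a + (1 - Pr (S : Module.End ℂ V) a)
      map_one' := by simp
      map_mul' := fun x y => by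
        simp only [map_mul, Units.val_mul]
        exact (cut_mul hSe a ((hLS y).map (Units.coeHom _))).symm }
  let F : ZMod q → C → ℂ := fun a x =>
    LinearMap.trace ℂ V ((L x : Module.End ℂ V) * Pr (S : Module.End ℂ V) a)
  have hFR : ∀ a x, F a x = (R a).character x - ((d : ℂ) - m a) := fun a x => by
    simp only [F, R, Representation.character, MonoidHom.coe_mk, OneHom.coe_mk, map_add, map_sub,
      trace_Pr hSe, LinearMap.trace_one, hm, hdd]
    ring
  have hFinv : ∀ a x, F a x⁻¹ = starRingEnd ℂ (F a x) := fun a x => by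
    rw [hFR, hFR, map_sub, ← Char.char_inv_eq_conj]
    simp
  have hsumF : ∀ x : C, ∑ a : ZMod q, ∑ b : ZMod q,
      (F a x - F b x) * starRingEnd ℂ (F a x - F b x) = 2 * ((q : ℂ) - 1) := by
    intro x
    simp only [map_sub, ← hFinv]
    simp only [F, map_inv L]
    exact hkey (φ x) (2 ^ r0) (L x) ⟨r0, rfl⟩ (hφN x) ((hC x).mp x.2) (hφz x) (hL1 x) (hLS x)
  let ⟨_⟩ := nonempty_fintype C
  have hint : ∀ a b, ∃ N : ℤ, Cfsg.classInner (F a - F b) (F a - F b) = N := by
    intro a b
    let S0 : AddSubgroup (C → ℂ) := AddSubgroup.closure {χ | Cfsg.IsCharacter C χ}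
    have hbil : ∀ χ ∈ S0, ∀ ψ ∈ S0, ∃ N : ℤ, Cfsg.classInner χ ψ = N := by
      intro χ hχ
      induction hχ using AddSubgroup.closure_induction with
      | mem χ hχ =>
        intro ψ hψ
        induction hψ using AddSubgroup.closure_induction with
        | mem ψ hψ =>
          obtain ⟨k, hk⟩ := Char.classInner_isCharacter_nat hχ hψ
          exact ⟨k, by simp [hk]⟩
        | zero => exact ⟨0, by simp [Cfsg.classInner]⟩
        | add u v _ _ hu hv =>
          obtain ⟨i, hi⟩ := hu; obtain ⟨j, hj⟩ := hv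
          exact ⟨i + j, by rw [Char.classInner_add_right, hi, hj, Int.cast_add]⟩
        | neg u _ hu =>
          obtain ⟨i, hi⟩ := hu
          exact ⟨-i, by
            rw [Int.cast_neg, ← hi]; simp [Cfsg.classInner, Finset.sum_neg_distrib]⟩
      | zero => exact fun ψ _ => ⟨0, by simp [Cfsg.classInner]⟩
      | add u v _ _ hu hv =>
        intro ψ hψ
        obtain ⟨i, hi⟩ := hu ψ hψ; obtain ⟨j, hj⟩ := hv ψ hψ
        exact ⟨i + j, by rw [Char.classInner_add_left, hi, hj, Int.cast_add]⟩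
      | neg u _ hu =>
        intro ψ hψ
        obtain ⟨i, hi⟩ := hu ψ hψ
        exact ⟨-i, by rw [Int.cast_neg, ← hi]; simp [Cfsg.classInner, Finset.sum_neg_distrib]⟩
    have hF : ∀ a, F a ∈ S0 := fun a => by
      have h1 : F a = (R a).character - ((d : ℤ) - m a) • (fun _ : C => (1 : ℂ)) := funext fun x => by
        rw [hFR]; simp
      rw [h1]
      exact sub_mem (AddSubgroup.subset_closure (Char.isCharacter_of_rep _))
        (zsmul_mem (AddSubgroup.subset_closure
          (by simpa using Clifford.isCharacter_of_hom (1 : C →* ℂˣ))) _)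
    exact hbil _ (sub_mem (hF a) (hF b)) _ (sub_mem (hF a) (hF b))
  choose Nab hNab using hint
  have hN0 : ∀ a b, 0 ≤ Nab a b ∧ (Nab a b = 0 → F a = F b) := by
    intro a b
    refine ⟨?_, fun h => sub_eq_zero.mp (Char.classInner_self_eq_zero (by rw [hNab, h, Int.cast_zero]))⟩
    have := hNab a b
    rw [Char.classInner_self_eq_norm] at this
    have h2 : ((Nat.card C : ℝ)⁻¹ * ∑ g : C, ‖(F a - F b) g‖ ^ 2 : ℝ) = (Nab a b : ℝ) := by
      exact_mod_cast this
    exact_mod_cast h2 ▸ (mul_nonneg (inv_nonneg.mpr (Nat.cast_nonneg _))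
      (Finset.sum_nonneg fun g _ => sq_nonneg _) : (0 : ℝ) ≤ _)
  have hF1 : ∀ a, F a 1 = m a := fun a => by simp [F, trace_Pr hSe, hm]
  have hNsum : ∑ a : ZMod q, ∑ b : ZMod q, Nab a b = 2 * ((q : ℤ) - 1) := by
    refine (Int.cast_inj (α := ℂ)).mp ?_
    push_cast
    simp only [← hNab, Cfsg.classInner, ← Finset.mul_sum, Pi.sub_apply]
    rw [Finset.sum_congr rfl fun a _ => Finset.sum_comm, Finset.sum_comm,
      Finset.sum_congr rfl fun x _ => hsumF x, Finset.sum_const, Finset.card_univ, nsmul_eq_mul,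
      Nat.card_eq_fintype_card, inv_mul_cancel_left₀ (Nat.cast_ne_zero.mpr Fintype.card_ne_zero)]
  have hN1 : ∀ b : ZMod q, b ≠ 0 → 1 ≤ Nab 0 b ∧ 1 ≤ Nab b 0 := by
    intro b hb
    have hne : m 0 ≠ m b := by
      intro h
      rcases (hc0 b hb b hb).2 with h2 | h2 <;> simp [h] at h2
    constructor
    · refine lt_of_le_of_ne (hN0 0 b).1 fun h => hne ?_
      have := congr_fun ((hN0 0 b).2 h.symm) 1
      rw [hF1, hF1] at this
      exact_mod_cast this
    · refine lt_of_le_of_ne (hN0 b 0).1 fun h => hne ?_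
      have := congr_fun ((hN0 b 0).2 h.symm) 1
      rw [hF1, hF1] at this
      exact_mod_cast this.symm
  have hFeq : ∀ a b : ZMod q, a ≠ 0 → b ≠ 0 → F a = F b := by
    intro a b ha hb
    refine (hN0 a b).2 (le_antisymm ?_ (hN0 a b).1)
    by_contra hpos
    push Not at hpos
    have hcard : ((Finset.univ.erase (0 : ZMod q)).card : ℤ) = q - 1 := by
      rw [Finset.card_erase_of_mem (Finset.mem_univ _), Finset.card_univ, ZMod.card,
        Nat.cast_sub hq.out.one_lt.le, Nat.cast_one]
    have h1 : ((q : ℤ) - 1) ≤ ∑ b' : ZMod q, Nab 0 b' := by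
      rw [← hcard, ← Finset.add_sum_erase Finset.univ _ (Finset.mem_univ (0 : ZMod q))]
      have := Finset.card_nsmul_le_sum (Finset.univ.erase (0 : ZMod q)) (fun b' => Nab 0 b') 1
        fun b' hb' => (hN1 b' (Finset.mem_erase.mp hb').1).1
      have := (hN0 0 0).1
      simp at *
      linarith
    have h2 : ∀ a' : ZMod q, a' ∈ Finset.univ.erase (0 : ZMod q) →
        (if a' = a then (2 : ℤ) else 1) ≤ ∑ b' : ZMod q, Nab a' b' := by
      intro a' ha'
      have hh := (hN1 a' (Finset.mem_erase.mp ha').1).2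
      split_ifs with h
      · subst h
        have := Finset.sum_le_sum_of_subset_of_nonneg (f := fun b' => Nab a' b')
          (Finset.subset_univ ({0, b} : Finset (ZMod q))) fun i _ _ => (hN0 a' i).1
        rw [Finset.sum_pair (Ne.symm hb)] at this
        linarith
      · exact hh.trans (Finset.single_le_sum (fun i _ => (hN0 a' i).1) (Finset.mem_univ 0))
    have h3 := Finset.sum_le_sum h2
    rw [Finset.sum_ite, Finset.filter_eq' (Finset.univ.erase (0 : ZMod q)) a,
      if_pos (Finset.mem_erase.mpr ⟨ha, Finset.mem_univ a⟩), Finset.filter_ne'] at h3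
    simp only [Finset.sum_singleton, Finset.sum_const, nsmul_eq_mul, mul_one, Finset.card_singleton,
      Nat.cast_one, one_mul] at h3
    have h4 : (((Finset.univ.erase (0 : ZMod q)).erase a).card : ℤ) = q - 2 := by
      have h5 := Finset.card_erase_of_mem (Finset.mem_erase.mpr ⟨ha, Finset.mem_univ a⟩ :
        a ∈ Finset.univ.erase (0 : ZMod q))
      have h6 : (Finset.univ.erase (0 : ZMod q)).card = q - 1 := by
        rw [Finset.card_erase_of_mem (Finset.mem_univ _), Finset.card_univ, ZMod.card]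
      have := hq.out.two_le
      omega
    rw [← Finset.add_sum_erase Finset.univ _ (Finset.mem_univ (0 : ZMod q))] at hNsum
    linarith
  -- the determinants agree
  have hdet : ∀ a : ZMod q, a ≠ 0 → ∀ x : C, detOn (S : Module.End ℂ V) a (L x : Module.End ℂ V) = 1 := by
    intro a ha x
    have hchar : ∀ y, (R a).character y = (R 1).character y := fun y => by
      have := congr_fun (hFeq a 1 ha one_ne_zero) y
      rw [hFR, hFR, hm1 a ha, hm1 1 one_ne_zero] at this
      exact sub_left_inj.mp this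
    rw [← hLD x]
    change LinearMap.det (R a x) = LinearMap.det (R 1 x)
    exact det_eq_of_trace_eq (orderOf_pos x) (by rw [← map_pow, pow_orderOf_eq_one, map_one])
      (by rw [← map_pow, pow_orderOf_eq_one, map_one]) fun j => by
        rw [← map_pow, ← map_pow]; exact hchar _
  -- a generator of the quotient
  let K : Subgroup (MulAut E) := Subgroup.zpowers k
  have hexp : ∀ t : P, ∃ j : ℕ, φ t * k * (φ t)⁻¹ = k ^ j := fun t => by
    obtain ⟨j, hj⟩ := (mem_powers_iff_mem_zpowers (x := k)).mpr (hnorm t)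
    exact ⟨j, hj.symm⟩
  choose e he using hexp
  let θ : P →* ZMod q := {
    toFun := fun t => (e t : ZMod q)
    map_one' := by
      rw [← Nat.cast_one, ZMod.natCast_eq_natCast_iff, ← hord, ← pow_eq_pow_iff_modEq, ← he]
      simp
    map_mul' := fun s t => by
      rw [← Nat.cast_mul, ZMod.natCast_eq_natCast_iff, ← hord, ← pow_eq_pow_iff_modEq, ← he,
      map_mul, mul_inv_rev, pow_mul, ← he s, conj_pow, ← he t]
      group }
  have hθC : ∀ t, t ∈ C ↔ θ t = 1 := fun t => by
    rw [hC, ← mul_inv_eq_iff_eq_mul, he]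
    change k ^ e t = k ↔ (e t : ZMod q) = 1
    constructor
    · intro h
      rw [← Nat.cast_one, ZMod.natCast_eq_natCast_iff, ← hord, ← pow_eq_pow_iff_modEq, h, pow_one]
    · intro h
      rw [← Nat.cast_one, ZMod.natCast_eq_natCast_iff, ← hord, ← pow_eq_pow_iff_modEq, pow_one] at h
      exact h
  let θu : P →* (ZMod q)ˣ := θ.toHomUnits
  have hker : θu.ker = C := Subgroup.ext fun t => by
    rw [MonoidHom.mem_ker, hθC, Units.ext_iff]; rfl
  have : C.Normal := hker ▸ θu.normal_ker
  have : IsCyclic θu.range := inferInstance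
  obtain ⟨g, hg⟩ := IsCyclic.exists_generator (α := θu.range)
  obtain ⟨t, ht⟩ := θu.rangeRestrict_surjective g
  have hgen : ∀ p : P, ∃ i : ℤ, p * (t ^ i)⁻¹ ∈ C := fun p => by
    obtain ⟨i, hi⟩ := Subgroup.mem_zpowers_iff.mp (hg (θu.rangeRestrict p))
    refine ⟨i, ?_⟩
    rw [← hker, ← θu.ker_rangeRestrict, MonoidHom.mem_ker, map_mul, map_inv, map_zpow, ht, hi,
      mul_inv_cancel]
  obtain ⟨T, hT⟩ := exists_intertwiner hS hσ (φ t) (hφz t)
  refine exists_lift_cyclic σ φ C t hgen L (fun x => hL1 x) T hT fun x => ?_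
  have hcx : t * (x : P) * t⁻¹ ∈ C := Subgroup.Normal.conj_mem inferInstance _ x.2 t
  refine hNuniq _ hcx _ _ ⟨?_, ?_, ?_⟩ (hLf _ hcx)
  · simp only [map_mul, map_inv]
    exact ((Impl.mul hT (hL1 x)).mul (Impl.inv hT))
  · -- the eigenspaces are permuted
    have hTi : Impl σ (φ t) T := hT
    have hTS : T * S * T⁻¹ = S ^ e t := impl_unique hqd
      (by rw [← he]; exact (hTi.mul hSi).mul hTi.inv) (hSi.pow _)
      (by rw [conj_pow, hSq, mul_one, mul_inv_cancel])
      (by rw [← pow_mul, mul_comm, pow_mul, hSq, one_pow])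
      (by rw [map_mul, map_mul, map_inv, hSd, mul_one, mul_inv_cancel])
      (by rw [map_pow, hSd, one_pow])
    have hθne : (e t : ZMod q) ≠ 0 := (θu t).ne_zero
    -- conjugating the projections
    have hconj : ∀ a : ZMod q, (T : Module.End ℂ V) * Pr (S : Module.End ℂ V) ((e t : ZMod q) * a) =
        Pr (S : Module.End ℂ V) a * T := by
      intro a
      simp only [Pr, mul_smul_comm, smul_mul_assoc, Finset.mul_sum, Finset.sum_mul]
      congr 1
      refine Fintype.sum_equiv (Equiv.mulLeft₀ (e t : ZMod q) hθne) _ _ fun i => ?_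
      have h1 : T * S ^ i.val = (S ^ e t) ^ i.val * T := by
        rw [← hTS, conj_pow, inv_mul_cancel_right]
      have h2 := congr_arg Units.val h1
      rw [← pow_mul, Units.val_mul, Units.val_mul, Units.val_pow_eq_pow_val,
        Units.val_pow_eq_pow_val] at h2
      rw [Equiv.mulLeft₀_apply, pw, pw, h2,
        pow_eq_of_mod hSe (a := e t * i.val) (b := ((e t : ZMod q) * i).val) (by
          rw [ZMod.val_mul, ZMod.val_natCast]; simp [Nat.mul_mod])]
      congr 3
      ring
    -- transport of the determinant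
    have h3 : detOn (S : Module.End ℂ V) (1 : ZMod q)
        ((T * L x * T⁻¹ : (Module.End ℂ V)ˣ) : Module.End ℂ V) =
        detOn (S : Module.End ℂ V) ((e t : ZMod q) * 1) (L x : Module.End ℂ V) := by
      have h4 : Pr (S : Module.End ℂ V) (1 : ZMod q) = (T : Module.End ℂ V) *
          Pr (S : Module.End ℂ V) ((e t : ZMod q) * 1) * ((T⁻¹ : (Module.End ℂ V)ˣ) : Module.End ℂ V) := by
        rw [hconj, mul_assoc, Units.mul_inv, mul_one]
      have h5 : ((T * L x * T⁻¹ : (Module.End ℂ V)ˣ) : Module.End ℂ V) * Pr (S : Module.End ℂ V) (1 : ZMod q) +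
          (1 - Pr (S : Module.End ℂ V) (1 : ZMod q)) = (T : Module.End ℂ V) *
          ((L x : Module.End ℂ V) * Pr (S : Module.End ℂ V) ((e t : ZMod q) * 1) +
            (1 - Pr (S : Module.End ℂ V) ((e t : ZMod q) * 1))) *
          ((T⁻¹ : (Module.End ℂ V)ˣ) : Module.End ℂ V) := by
        simp only [h4, Units.val_mul, mul_add, add_mul, mul_sub, sub_mul, mul_one, one_mul,
          mul_assoc, Units.inv_mul_cancel_left, Units.mul_inv]
      rw [detOn, detOn, h5, map_mul, map_mul, mul_comm (LinearMap.det (T : Module.End ℂ V)),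
        mul_assoc, ← map_mul, Units.mul_inv, map_one, mul_one]
    exact h3.trans (hdet _ (mul_ne_zero hθne one_ne_zero) x)
  · rw [map_mul, map_mul, map_inv, mul_inv_cancel_comm]
    exact (hLf x x.2).2.2

end Lift

end CfsgLib.BlockB.Dade
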