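import Cfsg.Agent.Lib.BlockB.Dade.Sympl
import Mathlib.GroupTheory.SemidirectProduct

/-!
# Lifting an action on a group with two element centre to a projective-free action

`HasLift z φ`: for each irreducible representation with `z ↦ -1` there is a homomorphism into the units
of the operators implementing `φ`.  Lifts over commuting pieces multiply; lifts extend over cyclic
quotients and from a subgroup exchanging two pieces.
-/

namespace CfsgLib.BlockB.Dade

open Module Finset CfsgLib.Clifford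

universe u w

variable {E : Type u} [Group E] {z : E} {P : Type w} [Group P]
variable {V : Type} [AddCommGroup V] [Module ℂ V]

/-- `L` implements `φ` in `σ`. -/
def IsLift (σ : Representation ℂ E V) (φ : P →* MulAut E) (L : P →* (Module.End ℂ V)ˣ) : Prop :=
  ∀ t e, (L t : Module.End ℂ V) * σ e = σ (φ t e) * L t

/-- Every irreducible representation with `z ↦ -1` has a lift of `φ`. -/
def HasLift (z : E) (φ : P →* MulAut E) : Prop :=
  ∀ (V : Type) [AddCommGroup V] [Module ℂ V] [FiniteDimensional ℂ V] (σ : Representation ℂ E V),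
    σ.IsIrreducible → σ z = -1 → ∃ L, IsLift σ φ L

/-- Two implementations of one automorphism differ by a scalar. -/
theorem exists_scalar_mul [FiniteDimensional ℂ V] (σ : Representation ℂ E V) [σ.IsIrreducible]
    (α : MulAut E) {X Y : (Module.End ℂ V)ˣ}
    (hX : ∀ e, (X : Module.End ℂ V) * σ e = σ (α e) * X)
    (hY : ∀ e, (Y : Module.End ℂ V) * σ e = σ (α e) * Y) : ∃ c : ℂˣ, X = scalarUnits c * Y := by
  have hc : ∀ e, ((Y⁻¹ * X : (Module.End ℂ V)ˣ) : Module.End ℂ V) * σ e = σ e * (Y⁻¹ * X : (Module.End ℂ V)ˣ) := by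
    intro e
    rw [Units.val_mul, mul_assoc, hX, ← mul_assoc, ← mul_assoc]
    congr 1
    rw [Units.inv_mul_eq_iff_eq_mul, ← mul_assoc, hY, mul_assoc, Units.mul_inv, mul_one]
  obtain ⟨c, hc'⟩ := exists_scalar σ _ hc
  have := Char.nontrivial_of_isIrreducible σ
  have hc0 : c ≠ 0 := fun h0 => (Y⁻¹ * X).ne_zero (by rw [hc', h0, zero_smul])
  refine ⟨Units.mk0 c hc0, ?_⟩
  rw [scalarUnits_comm]
  refine (inv_mul_eq_iff_eq_mul.mp (Units.ext ?_))
  rw [hc']
  simp [Algebra.algebraMap_eq_smul_one]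

/-- A lift can be taken inside the linear span of the group, in every representation. -/
theorem exists_span_lift [Fintype E] (hS : Sympl z) {φ : P →* MulAut E} (h : HasLift z φ)
    [FiniteDimensional ℂ V] [Nontrivial V] (σ : Representation ℂ E V) (hσ : σ z = -1) :
    ∃ L, IsLift σ φ L ∧ ∀ t, ∃ f : E → ℂ, (L t : Module.End ℂ V) = lc σ f := by
  classical
  obtain ⟨p, hp⟩ := Char.exists_irreducible_subrep σ
  have hσ0 : p.toRepresentation z = -1 := LinearMap.ext fun x => Subtype.ext (by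
    change σ z x = _
    rw [hσ]; rfl)
  obtain ⟨L, hL⟩ := h _ p.toRepresentation hp hσ0
  have := Char.nontrivial_of_isIrreducible p.toRepresentation
  have hf := fun t => eq_lc hS hσ0 (L t : Module.End ℂ _)
  set f := fun t e => LinearMap.trace ℂ _ ((L t : Module.End ℂ p.toSubmodule) * p.toRepresentation e⁻¹) /
    (2 * finrank ℂ p.toSubmodule) with hfdef
  have hmul : ∀ s t, lc σ (f s) * lc σ (f t) = lc σ (f (s * t)) := fun s t => by
    rw [lc_mul]
    refine lc_eq_of_lc_eq hS hσ0 hσ ?_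
    rw [← lc_mul]
    exact ((congr_arg₂ (· * ·) (hf s) (hf t)).symm.trans
      ((congr_arg Units.val (map_mul L s t)).symm)).trans (hf (s * t))
  have hone : lc σ (f 1) = 1 := by
    rw [← map_one σ, ← lc_single σ (1 : E)]
    refine lc_eq_of_lc_eq hS hσ0 hσ ?_
    rw [lc_single, map_one]
    exact (hf 1).symm.trans (congr_arg Units.val (map_one L))
  let M : P →* Module.End ℂ V :=
    { toFun := fun t => lc σ (f t), map_one' := hone, map_mul' := fun s t => (hmul s t).symm }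
  refine ⟨M.toHomUnits, fun t e => ?_, fun t => ⟨f t, rfl⟩⟩
  change lc σ (f t) * σ e = σ (φ t e) * lc σ (f t)
  rw [← lc_single σ e, ← lc_single σ (φ t e), lc_mul, lc_mul]
  refine lc_eq_of_lc_eq hS hσ0 hσ ?_
  rw [← lc_mul, ← lc_mul, lc_single, lc_single]
  exact (congr_arg (· * _) (hf t)).symm.trans ((hL t e).trans (congr_arg (_ * ·) (hf t)))

/-- Restriction of the action to an invariant subgroup. -/
def Restricts (φ : P →* MulAut E) (F : Subgroup E) (ψ : P →* MulAut F) : Prop :=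
  ∀ t (x : F), ((ψ t x : F) : E) = φ t x

theorem exists_restricts (φ : P →* MulAut E) (F : Subgroup E) (h : ∀ t, ∀ x ∈ F, φ t x ∈ F) :
    ∃ ψ : P →* MulAut F, Restricts φ F ψ := by
  let f : P → MulAut F := fun t =>
    { toFun := fun x => ⟨φ t x, h t x x.2⟩
      invFun := fun x => ⟨φ t⁻¹ x, h t⁻¹ x x.2⟩
      left_inv := fun x => Subtype.ext (by simp [map_inv, MulAut.inv_apply_self])
      right_inv := fun x => Subtype.ext (by simp [map_inv, MulAut.apply_inv_self])
      map_mul' := fun a b => Subtype.ext (by simp) }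
  exact ⟨{ toFun := f, map_one' := MulEquiv.ext fun x => Subtype.ext (by simp [f]),
           map_mul' := fun s t => MulEquiv.ext fun x => Subtype.ext (by simp [f]) }, fun t x => rfl⟩

theorem lc_commute {F : Subgroup E} [Fintype F] (σ : Representation ℂ E V) (f : F → ℂ)
    {X : Module.End ℂ V} (h : ∀ x ∈ F, Commute (σ x) X) :
    Commute (lc (σ.comp F.subtype : Representation ℂ F V) f) X :=
  Commute.sum_left _ _ _ fun x _ => (h x x.2).smul_left (f x)

/-- A lift for a piece which commutes with the images of the centraliser of the piece. -/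
theorem exists_piece_lift [Finite E] {F : Subgroup E} {zF : F} (hzF : (zF : E) = z)
    (hS : Sympl zF) {φ : P →* MulAut E} {ψ : P →* MulAut F} (hψ : Restricts φ F ψ)
    (h : HasLift zF ψ) [FiniteDimensional ℂ V] [Nontrivial V] (σ : Representation ℂ E V)
    (hσ : σ z = -1) :
    ∃ L : P →* (Module.End ℂ V)ˣ,
      (∀ t, ∀ x ∈ F, (L t : Module.End ℂ V) * σ x = σ (φ t x) * L t) ∧
      ∀ t (X : Module.End ℂ V), (∀ x ∈ F, Commute (σ x) X) → Commute (L t : Module.End ℂ V) X := by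
  have : Fintype F := Fintype.ofFinite F
  obtain ⟨L, hL, hspan⟩ := exists_span_lift hS h (σ.comp F.subtype : Representation ℂ F V)
    (by simp [hzF, hσ])
  refine ⟨L, fun t x hx => ?_, fun t X hX => ?_⟩
  · have := hL t ⟨x, hx⟩
    simpa [hψ t ⟨x, hx⟩] using this
  · obtain ⟨f, hf⟩ := hspan t
    rw [hf]
    exact lc_commute σ f hX

/-- An equation of two intertwiners on generators. -/
theorem intertwine_of_sup (σ : Representation ℂ E V) (α : MulAut E) (X : (Module.End ℂ V)ˣ)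
    {F₁ F₂ : Subgroup E} (htop : F₁ ⊔ F₂ = ⊤)
    (h1 : ∀ x ∈ F₁, (X : Module.End ℂ V) * σ x = σ (α x) * X)
    (h2 : ∀ x ∈ F₂, (X : Module.End ℂ V) * σ x = σ (α x) * X) (e : E) :
    (X : Module.End ℂ V) * σ e = σ (α e) * X := by
  let S : Subgroup E :=
    ((MulAut.conj X).toMonoidHom.comp (repUnits σ)).eqLocus ((repUnits σ).comp α.toMonoidHom)
  have hS : ∀ x, x ∈ S ↔ (X : Module.End ℂ V) * σ x = σ (α x) * X := fun x => by
    change X * repUnits σ x * X⁻¹ = repUnits σ (α x) ↔ _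
    rw [mul_inv_eq_iff_eq_mul, Units.ext_iff]
    rfl
  have : (⊤ : Subgroup E) ≤ S := htop ▸ sup_le (fun x hx => (hS x).mpr (h1 x hx))
    (fun x hx => (hS x).mpr (h2 x hx))
  exact (hS e).mp (this (Subgroup.mem_top e))

/-- Lifts on two commuting pieces give a lift. -/
theorem hasLift_of_pieces [Finite E] {φ : P →* MulAut E} {F₁ F₂ : Subgroup E}
    (hcomm : ∀ x ∈ F₁, ∀ y ∈ F₂, x * y = y * x) (htop : F₁ ⊔ F₂ = ⊤)
    {z₁ : F₁} {z₂ : F₂} (hz₁ : (z₁ : E) = z) (hz₂ : (z₂ : E) = z) (hS₁ : Sympl z₁)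
    (hS₂ : Sympl z₂) {ψ₁ : P →* MulAut F₁} {ψ₂ : P →* MulAut F₂} (hψ₁ : Restricts φ F₁ ψ₁)
    (hψ₂ : Restricts φ F₂ ψ₂) (h₁ : HasLift z₁ ψ₁) (h₂ : HasLift z₂ ψ₂) : HasLift z φ := by
  intro V _ _ _ σ hσi hσ
  have := Char.nontrivial_of_isIrreducible σ
  obtain ⟨L₁, hL₁, hc₁⟩ := exists_piece_lift hz₁ hS₁ hψ₁ h₁ σ hσ
  obtain ⟨L₂, hL₂, hc₂⟩ := exists_piece_lift hz₂ hS₂ hψ₂ h₂ σ hσ
  have hx : ∀ x ∈ F₁, ∀ y ∈ F₂, Commute (σ x) (σ y) := fun x hx y hy => by
    rw [Commute, SemiconjBy, ← map_mul, ← map_mul, hcomm x hx y hy]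
  have h1y : ∀ t, ∀ y ∈ F₂, Commute (L₁ t : Module.End ℂ V) (σ y) := fun t y hy =>
    hc₁ t _ fun x hx' => hx x hx' y hy
  have h2x : ∀ t, ∀ x ∈ F₁, Commute (L₂ t : Module.End ℂ V) (σ x) := fun t x hx' =>
    hc₂ t _ fun y hy => (hx x hx' y hy).symm
  have h12 : ∀ s t, Commute (L₁ s) (L₂ t) := fun s t =>
    Commute.units_of_val (hc₁ s _ fun x hx' => (h2x t x hx').symm)
  let L : P →* (Module.End ℂ V)ˣ := MonoidHom.mk' (fun t => L₁ t * L₂ t) fun s t => by
    simp only [map_mul, mul_assoc]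
    congr 1
    rw [← mul_assoc, ← mul_assoc, (h12 t s).eq]
  refine ⟨L, fun t => intertwine_of_sup σ (φ t) (L t) htop (fun x hx' => ?_) (fun y hy => ?_)⟩
  · simp only [L, MonoidHom.mk'_apply, Units.val_mul]
    rw [mul_assoc, (h2x t x hx').eq, ← mul_assoc, hL₁ t x hx', mul_assoc]
  · simp only [L, MonoidHom.mk'_apply, Units.val_mul]
    rw [mul_assoc, hL₂ t y hy, ← mul_assoc, (h1y t _ (hψ₂ t ⟨y, hy⟩ ▸ Subtype.coe_prop _)).eq,
      mul_assoc]

/-- The pairs of a group element and an operator implementing it. -/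
def intertwineGroup (σ : Representation ℂ E V) (φ : P →* MulAut E) :
    Subgroup (P × (Module.End ℂ V)ˣ) where
  carrier := {x | ∀ e, (x.2 : Module.End ℂ V) * σ e = σ (φ x.1 e) * x.2}
  one_mem' := fun e => by simp
  mul_mem' := fun {a b} ha hb e => by
    simp only [Prod.fst_mul, Prod.snd_mul, Units.val_mul, map_mul, MulAut.mul_apply]
    rw [mul_assoc, hb e, ← mul_assoc, ha, mul_assoc]
  inv_mem' := fun {a} ha e => by
    simp only [Prod.fst_inv, Prod.snd_inv]
    rw [Units.inv_mul_eq_iff_eq_mul, ← mul_assoc, ha, map_inv φ, MulAut.apply_inv_self, mul_assoc,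
      Units.mul_inv, mul_one]

/-- A lift on a normal subgroup with cyclic quotient extends when some implementation of a
generator normalises it. -/
theorem exists_lift_cyclic [Finite P] [FiniteDimensional ℂ V] (σ : Representation ℂ E V)
    [σ.IsIrreducible] (φ : P →* MulAut E) (M : Subgroup P) [M.Normal] (t : P)
    (hgen : ∀ p : P, ∃ i : ℤ, p * (t ^ i)⁻¹ ∈ M)
    (L : M →* (Module.End ℂ V)ˣ) (hL : IsLift σ (φ.comp M.subtype) L)
    (T : (Module.End ℂ V)ˣ) (hT : ∀ e, (T : Module.End ℂ V) * σ e = σ (φ t e) * T)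
    (hTL : ∀ m : M, T * L m * T⁻¹ = L ⟨t * m * t⁻¹, Subgroup.Normal.conj_mem ‹_› _ m.2 t⟩) :
    ∃ L', IsLift σ φ L' := by
  have hn : 0 < orderOf (QuotientGroup.mk' M t) := orderOf_pos _
  set n := orderOf (QuotientGroup.mk' M t) with hndef
  have htn : t ^ n ∈ M := by
    rw [← QuotientGroup.eq_one_iff (N := M)]
    change QuotientGroup.mk' M (t ^ n) = 1
    rw [map_pow, hndef, pow_orderOf_eq_one]
  -- powers of an implementation
  have hpow : ∀ (X : (Module.End ℂ V)ˣ), (∀ e, (X : Module.End ℂ V) * σ e = σ (φ t e) * X) →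
      ∀ k : ℕ, ∀ e, ((X ^ k : (Module.End ℂ V)ˣ) : Module.End ℂ V) * σ e =
        σ (φ (t ^ k) e) * (X ^ k : (Module.End ℂ V)ˣ) := by
    intro X hX k
    induction k with
    | zero => intro e; simp
    | succ k ih =>
      intro e
      rw [pow_succ, Units.val_mul, mul_assoc, hX, ← mul_assoc, ih, mul_assoc, pow_succ t,
        map_mul, MulAut.mul_apply]
  obtain ⟨c, hc⟩ := exists_scalar_mul σ (φ (t ^ n)) (hpow T hT n) (hL ⟨_, htn⟩)
  obtain ⟨w, hw⟩ := IsAlgClosed.exists_pow_nat_eq ((c⁻¹ : ℂˣ) : ℂ) hn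
  have hw0 : w ≠ 0 := fun h => (c⁻¹).ne_zero (by rw [← hw, h, zero_pow hn.ne'])
  set T' := scalarUnits (Units.mk0 w hw0) * T with hT'def
  have hT' : ∀ e, (T' : Module.End ℂ V) * σ e = σ (φ t e) * T' := fun e => by
    rw [hT'def, scalarUnits_comm, Units.val_mul, mul_assoc]
    have := congr_arg Units.val (scalarUnits_comm (Units.mk0 w hw0) (repUnits σ e))
    simp only [Units.val_mul, coe_repUnits] at this
    rw [this, ← mul_assoc, hT, mul_assoc]
  have hT'L : ∀ m : M, T' * L m * T'⁻¹ = L ⟨t * m * t⁻¹, Subgroup.Normal.conj_mem ‹_› _ m.2 t⟩ := fun m => by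
    rw [← hTL m, hT'def, mul_inv_rev]
    rw [mul_assoc (scalarUnits _) T, scalarUnits_comm]
    simp only [mul_assoc]
    congr 2
    rw [← mul_assoc, scalarUnits_comm, mul_assoc, mul_inv_cancel, mul_one]
  have hT'n : T' ^ n = L ⟨_, htn⟩ := by
    have h1 : Units.mk0 w hw0 ^ n = c⁻¹ := Units.ext hw
    rw [hT'def, (show Commute (scalarUnits (Units.mk0 w hw0)) T from
      scalarUnits_comm _ _).mul_pow, hc, ← map_pow, h1, ← mul_assoc, ← map_mul, inv_mul_cancel,
      map_one, one_mul]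
  -- the semidirect product
  let θ : Multiplicative ℤ →* MulAut M := zpowersHom _ (MulAut.conjNormal t)
  have hθ : ∀ (i : ℤ) (m : M), ((θ (Multiplicative.ofAdd i) m : M) : P) = t ^ i * m * (t ^ i)⁻¹ := by
    intro i m
    simp only [θ, zpowersHom_apply, toAdd_ofAdd, ← map_zpow, MulAut.conjNormal_apply]
  let π : M ⋊[θ] Multiplicative ℤ →* P :=
    SemidirectProduct.lift M.subtype (zpowersHom P t) fun g => MonoidHom.ext fun m => by
      obtain ⟨i, rfl⟩ := Multiplicative.ofAdd.surjective g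
      simp [hθ]
      rw [← map_zpow, MulAut.conj_apply]
  have hTconj : ∀ (i : ℤ) (m : M), L (θ (Multiplicative.ofAdd i) m) = T' ^ i * L m * (T' ^ i)⁻¹ := by
    have h1 : L.comp (MulAut.conjNormal t : MulAut M).toMonoidHom =
        (MulAut.conj T').toMonoidHom.comp L := MonoidHom.ext fun m => by
      simp only [MonoidHom.comp_apply, MulEquiv.coe_toMonoidHom, MulAut.conj_apply, hT'L]
      congr 1
    intro i
    induction i using Int.induction_on with
    | zero => intro m; simp [θ]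
    | succ i ih =>
      intro m
      have := DFunLike.congr_fun h1 m
      simp only [MonoidHom.comp_apply, MulEquiv.coe_toMonoidHom, MulAut.conj_apply] at this
      rw [show θ (Multiplicative.ofAdd ((i : ℤ) + 1)) m =
          θ (Multiplicative.ofAdd (i : ℤ)) ((MulAut.conjNormal t : MulAut M) m) by
        simp [θ, zpow_add_one], ih, this, zpow_add_one]
      group
    | pred i ih =>
      intro m
      have := DFunLike.congr_fun h1 ((MulAut.conjNormal t : MulAut M)⁻¹ m)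
      simp only [MonoidHom.comp_apply, MulEquiv.coe_toMonoidHom, MulAut.conj_apply,
        MulAut.apply_inv_self] at this
      rw [show θ (Multiplicative.ofAdd (-(i : ℤ) - 1)) m =
          θ (Multiplicative.ofAdd (-(i : ℤ))) ((MulAut.conjNormal t : MulAut M)⁻¹ m) by
        simp [θ, zpow_sub_one], ih, zpow_sub_one, this]
      group
  let Λ : M ⋊[θ] Multiplicative ℤ →* (Module.End ℂ V)ˣ :=
    SemidirectProduct.lift L (zpowersHom _ T') fun g => MonoidHom.ext fun m => by
      obtain ⟨i, rfl⟩ := Multiplicative.ofAdd.surjective g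
      simp [hTconj]
      rw [← map_zpow, MulAut.conj_apply]
  have hπ : Function.Surjective π := fun p => by
    obtain ⟨i, hi⟩ := hgen p
    exact ⟨⟨⟨_, hi⟩, Multiplicative.ofAdd i⟩, by simp [π, SemidirectProduct.lift]⟩
  have hker : π.ker ≤ Λ.ker := fun x hx => by
    obtain ⟨m, g⟩ := x
    obtain ⟨i, rfl⟩ := Multiplicative.ofAdd.surjective g
    simp only [MonoidHom.mem_ker, π, Λ, SemidirectProduct.lift, MonoidHom.coe_mk, OneHom.coe_mk,
      Subgroup.coe_subtype, zpowersHom_apply, toAdd_ofAdd] at hx ⊢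
    have hti : t ^ i ∈ M := by
      rw [eq_inv_of_mul_eq_one_right hx]; exact M.inv_mem m.2
    have hi : (n : ℤ) ∣ i := by
      rw [hndef, orderOf_dvd_iff_zpow_eq_one, ← map_zpow]
      exact (QuotientGroup.eq_one_iff _).mpr hti
    obtain ⟨j, rfl⟩ := hi
    rw [zpow_mul, zpow_natCast, hT'n, ← map_zpow, ← map_mul]
    convert map_one L
    exact Subtype.ext (by simpa [zpow_mul] using hx)
  refine ⟨π.liftOfSurjective hπ ⟨Λ, hker⟩, fun p e => ?_⟩
  obtain ⟨⟨m, g⟩, rfl⟩ := hπ p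
  obtain ⟨i, rfl⟩ := Multiplicative.ofAdd.surjective g
  rw [MonoidHom.liftOfRightInverse_comp_apply]
  have hm : ((m : P), L m) ∈ intertwineGroup σ φ := hL m
  have ht : (t, T') ∈ intertwineGroup σ φ := hT'
  have := mul_mem hm (zpow_mem ht i)
  have := this e
  simpa [π, Λ, SemidirectProduct.lift] using this

/-- A lift on a piece for a normal subgroup, whose image under some `t` is the other piece. -/
theorem hasLift_of_swap [Finite E] [Finite P] (hS : Sympl z) {φ : P →* MulAut E}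
    (hφz : ∀ t, φ t z = z) (M : Subgroup P) [M.Normal] (t : P)
    (hgen : ∀ p : P, ∃ i : ℤ, p * (t ^ i)⁻¹ ∈ M) (ht2 : t * t ∈ M)
    {F₁ F₂ : Subgroup E} (hcomm : ∀ x ∈ F₁, ∀ y ∈ F₂, x * y = y * x) (htop : F₁ ⊔ F₂ = ⊤)
    (hswap : ∀ x, φ t x ∈ F₂ ↔ x ∈ F₁)
    (hM : ∀ m ∈ M, ∀ x ∈ F₁, φ m x ∈ F₁)
    {z₁ : F₁} (hz₁ : (z₁ : E) = z) (hS₁ : Sympl z₁)
    {ψ₁ : M →* MulAut F₁} (hψ₁ : Restricts (φ.comp M.subtype) F₁ ψ₁) (h₁ : HasLift z₁ ψ₁) :
    HasLift z φ := by
  classical
  intro V _ _ _ σ hσi hσ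
  have := Fintype.ofFinite E
  have := Char.nontrivial_of_isIrreducible σ
  obtain ⟨L₁, hL₁, hc₁⟩ := exists_piece_lift hz₁ hS₁ hψ₁ h₁ σ hσ
  obtain ⟨T, hT⟩ := exists_intertwiner hS hσ (φ t) (hφz t)
  have hTu : ∀ e, T * repUnits σ e = repUnits σ (φ t e) * T := fun e => Units.ext (hT e)
  have hconj : ∀ m : M, t⁻¹ * (m : P) * t ∈ M := fun m =>
    Subgroup.Normal.conj_mem' inferInstance _ m.2 t
  let cj : M →* M :=
    { toFun := fun m => ⟨t⁻¹ * (m : P) * t, hconj m⟩
      map_one' := Subtype.ext (by simp)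
      map_mul' := fun a b => Subtype.ext (by simp [mul_assoc]) }
  let L₂ : M →* (Module.End ℂ V)ˣ := (MulAut.conj T).toMonoidHom.comp (L₁.comp cj)
  have hL₁u : ∀ m : M, ∀ x ∈ F₁, L₁ m * repUnits σ x = repUnits σ (φ m x) * L₁ m :=
    fun m x hx => Units.ext (hL₁ m x hx)
  have hx : ∀ x ∈ F₁, ∀ y ∈ F₂, Commute (σ x) (σ y) := fun x hx y hy => by
    rw [Commute, SemiconjBy, ← map_mul, ← map_mul, hcomm x hx y hy]
  have h1y : ∀ m, ∀ y ∈ F₂, Commute (L₁ m) (repUnits σ y) := fun m y hy =>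
    Commute.units_of_val (hc₁ m _ fun x hx' => hx x hx' y hy)
  have hT2 : ∀ x ∈ F₁, ∃ y ∈ F₂, φ t y = x := fun x hx' => by
    refine ⟨(φ t)⁻¹ x, ?_, MulAut.apply_inv_self _ _ _⟩
    have h := hM _ (M.inv_mem ht2) x hx'
    rw [← hswap, ← MulAut.mul_apply, ← map_mul] at h
    simpa [map_inv] using h
  have hy2 : ∀ y ∈ F₂, ∃ x ∈ F₁, φ t x = y := fun y hy =>
    ⟨(φ t)⁻¹ y, by rw [← hswap, MulAut.apply_inv_self]; exact hy, MulAut.apply_inv_self _ _ _⟩
  have h2x : ∀ m, ∀ x ∈ F₁, Commute (L₂ m) (repUnits σ x) := fun m x hx' => by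
    obtain ⟨y, hy, rfl⟩ := hT2 x hx'
    have e : repUnits σ (φ t y) = T * repUnits σ y * T⁻¹ := by
      rw [hTu, mul_inv_cancel_right]
    rw [e]
    exact (h1y (cj m) y hy).map (MulAut.conj T).toMonoidHom
  have hL₂u : ∀ m : M, ∀ y ∈ F₂, L₂ m * repUnits σ y = repUnits σ (φ m y) * L₂ m := by
    intro m y hy
    obtain ⟨x, hx', rfl⟩ := hy2 y hy
    have e : ∀ u, repUnits σ (φ t u) = T * repUnits σ u * T⁻¹ := fun u => by
      rw [hTu, mul_inv_cancel_right]
    have e2 : φ m (φ t x) = φ t (φ (cj m : P) x) := by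
      simp only [cj, MonoidHom.coe_mk, OneHom.coe_mk, ← MulAut.mul_apply, ← map_mul]
      congr 2
      group
    rw [e2, e, e]
    simp only [L₂, MonoidHom.comp_apply, MulEquiv.coe_toMonoidHom, MulAut.conj_apply]
    have := hL₁u (cj m) x hx'
    simp only [mul_assoc, inv_mul_cancel_left]
    rw [← mul_assoc (L₁ _), this, mul_assoc]
  have h12 : ∀ s m, Commute (L₁ s) (L₂ m) := fun s m => Commute.units_of_val
    (hc₁ s _ fun x hx' => congr_arg Units.val (h2x m x hx').eq.symm)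
  let L : M →* (Module.End ℂ V)ˣ := MonoidHom.mk' (fun m => L₁ m * L₂ m) fun a b => by
    simp only [map_mul, mul_assoc]
    congr 1
    rw [← mul_assoc, ← mul_assoc, (h12 b a).eq]
  have hLu : ∀ (m : M) e, (L m : Module.End ℂ V) * σ e = σ (φ m e) * L m := fun m =>
    intertwine_of_sup σ (φ m) (L m) htop (fun x hx' => by
      have : L m * repUnits σ x = repUnits σ (φ m x) * L m := by
        simp only [L, MonoidHom.mk'_apply]
        rw [mul_assoc, (h2x m x hx').eq, ← mul_assoc, hL₁u m x hx', mul_assoc]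
      exact congr_arg Units.val this) (fun y hy => by
      have hy' : φ m y ∈ F₂ := by
        obtain ⟨x, hx', rfl⟩ := hy2 y hy
        rw [show φ m (φ t x) = φ t (φ (t⁻¹ * m * t) x) by
          simp only [← MulAut.mul_apply, ← map_mul]; congr 2; group, hswap]
        exact hM _ (hconj m) x hx'
      have : L m * repUnits σ y = repUnits σ (φ m y) * L m := by
        simp only [L, MonoidHom.mk'_apply]
        rw [mul_assoc, hL₂u m y hy, ← mul_assoc, (h1y m _ hy').eq, mul_assoc]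
      exact congr_arg Units.val this)
  refine exists_lift_cyclic σ φ M t hgen L hLu T hT fun m => ?_
  obtain ⟨c, hc⟩ := exists_scalar_mul σ (φ (t * t)) (X := T * T) (Y := L ⟨_, ht2⟩)
    (fun e => by rw [Units.val_mul, mul_assoc, hT, ← mul_assoc, hT, mul_assoc, map_mul, MulAut.mul_apply])
    (hLu ⟨_, ht2⟩)
  have hnm : t * (m : P) * t⁻¹ ∈ M := Subgroup.Normal.conj_mem inferInstance _ m.2 t
  -- the first factor goes to the second
  have e1 : T * L₁ m * T⁻¹ = L₂ ⟨_, hnm⟩ := by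
    simp only [L₂, MonoidHom.comp_apply, MulEquiv.coe_toMonoidHom, MulAut.conj_apply]
    congr 3
    exact Subtype.ext (by simp [cj, mul_assoc])
  -- the second factor goes to the first
  have e2 : T * L₂ m * T⁻¹ = L₁ ⟨_, hnm⟩ := by
    have : T * L₂ m * T⁻¹ = L ⟨_, ht2⟩ * L₁ (cj m) * (L ⟨_, ht2⟩)⁻¹ := by
      have h : T * L₂ m * T⁻¹ = (T * T) * L₁ (cj m) * (T * T)⁻¹ := by
        simp only [L₂, MonoidHom.comp_apply, MulEquiv.coe_toMonoidHom, MulAut.conj_apply]
        group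
      rw [h, hc, mul_inv_rev, scalarUnits_comm c (L ⟨_, ht2⟩)]
      simp only [mul_assoc]
      rw [← mul_assoc (L₁ (cj m)), ← mul_assoc (scalarUnits c), scalarUnits_comm]
      group
    rw [this]
    simp only [L, MonoidHom.mk'_apply, mul_inv_rev]
    rw [mul_assoc (L₁ _), ← (h12 (cj m) ⟨_, ht2⟩).eq, ← mul_assoc (L₁ _), mul_assoc (L₁ _ * L₁ _),
      ← mul_assoc (L₂ _), mul_inv_cancel, one_mul, ← map_inv, ← map_mul, ← map_mul]
    congr 1
    exact Subtype.ext (by simp [cj]; group)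
  simp only [L, MonoidHom.mk'_apply]
  rw [show T * (L₁ m * L₂ m) * T⁻¹ = (T * L₁ m * T⁻¹) * (T * L₂ m * T⁻¹) by group, e1, e2,
    (h12 _ _).eq]

end CfsgLib.BlockB.Dade
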