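import Cfsg.Agent.Lib.BlockB.Dade.Base
import Cfsg.Agent.Lib.Transfer.ClassTwo
import Mathlib.GroupTheory.Solvable

/-!
# Lifts of 2-groups normalising a solvable odd group without fixed points

By induction on the order: split along fixed subgroups of abelian normal pieces and along orbits of
maximal subgroups with large fixed groups, down to a fixed-point-free automorphism of prime order.
-/

namespace CfsgLib.BlockB.Dade

open Subgroup

universe u w

variable {E : Type u} [Group E] {z : E}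

theorem fix_conj (g : MulAut E) (L : Subgroup (MulAut E)) :
    fixSub (L.map (MulAut.conj g).toMonoidHom) = (fixSub L).map g.toMonoidHom := by
  ext x
  constructor
  · intro hx
    refine ⟨g⁻¹ x, fun k hk => ?_, by simp [MulAut.apply_inv_self]⟩
    have := hx (g * k * g⁻¹) ⟨k, hk, by simp⟩
    rw [MulAut.mul_apply, MulAut.mul_apply] at this
    calc k (g⁻¹ x) = g⁻¹ (g (k (g⁻¹ x))) := (MulAut.inv_apply_self _ _ _).symm
      _ = g⁻¹ x := by rw [this]
  · rintro ⟨y, hy, rfl⟩ k ⟨j, hj, rfl⟩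
    simp [MulAut.mul_apply, MulAut.inv_apply_self, hy j hj]

theorem conj_mem_iff_map {g : MulAut E} {A : Subgroup (MulAut E)} [Finite E]
    (h : ∀ k ∈ A, g * k * g⁻¹ ∈ A) : A.map (MulAut.conj g).toMonoidHom = A :=
  eq_of_le_of_card_ge (by rintro _ ⟨k, hk, rfl⟩; simpa using h k hk)
    (le_of_eq (Nat.card_congr (A.equivMapOfInjective _ (MulAut.conj g).injective).toEquiv))

theorem fix_invariant [Finite E] {g : MulAut E} {A : Subgroup (MulAut E)}
    (h : ∀ k ∈ A, g * k * g⁻¹ ∈ A) {x : E} (hx : x ∈ fixSub A) : g x ∈ fixSub A := by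
  rw [← conj_mem_iff_map h, fix_conj]
  exact ⟨x, hx, rfl⟩

theorem centralizer_invariant [Finite E] {g : MulAut E} {F : Subgroup E} (h : ∀ x ∈ F, g x ∈ F)
    {x : E} (hx : x ∈ centralizer (F : Set E)) : g x ∈ centralizer (F : Set E) := by
  have hmap : F.map g.toMonoidHom = F :=
    eq_of_le_of_card_ge (by rintro _ ⟨y, hy, rfl⟩; exact h y hy)
      (le_of_eq (Nat.card_congr (F.equivMapOfInjective _ g.injective).toEquiv))
  rw [mem_centralizer_iff] at hx ⊢
  intro y hy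
  rw [← hmap] at hy
  obtain ⟨y', hy', rfl⟩ := hy
  change g y' * g x = g x * g y'
  rw [← map_mul, ← map_mul, hx y' hy']

/-- An invariant abelian subgroup of prime exponent. -/
theorem exists_abelian_inv [Finite E] (K : Subgroup (MulAut E)) [Group.IsSolvable K] (hK : K ≠ ⊥) :
    ∃ (A : Subgroup (MulAut E)) (q : ℕ), q.Prime ∧ A ≤ K ∧ A ≠ ⊥ ∧
      (∀ a ∈ A, ∀ b ∈ A, a * b = b * a) ∧ (∀ a ∈ A, a ^ q = 1) ∧
      ∀ g : MulAut E, (∀ k ∈ K, g * k * g⁻¹ ∈ K) → ∀ a ∈ A, g * a * g⁻¹ ∈ A := by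
  obtain ⟨n, hn⟩ := (Group.isSolvable_def K).mp inferInstance
  let D : ℕ → Subgroup (MulAut E) := fun i => (derivedSeries K i).map K.subtype
  have hD0 : D 0 = K := by simp [D, ← MonoidHom.range_eq_map]
  have hDs : ∀ i, D (i + 1) = ⁅D i, D i⁆ := fun i => by
    simp only [D, derivedSeries_succ, map_commutator]
  have hDn : D n = ⊥ := by simp [D, hn]
  classical
  have hex : ∃ i, D i = ⊥ := ⟨n, hDn⟩
  obtain ⟨j, hj⟩ : ∃ j, Nat.find hex = j + 1 := Nat.exists_eq_succ_of_ne_zero fun h0 => by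
    have := Nat.find_spec hex
    rw [h0, hD0] at this
    exact hK this
  have hA1 : D (j + 1) = ⊥ := hj ▸ Nat.find_spec hex
  have hA0 : D j ≠ ⊥ := Nat.find_min hex (by omega)
  rw [hDs, commutator_eq_bot_iff_le_centralizer] at hA1
  have hab : ∀ a ∈ D j, ∀ b ∈ D j, a * b = b * a := fun a ha b hb =>
    (mem_centralizer_iff.mp (hA1 hb) a ha)
  have hDK : D j ≤ K := map_subtype_le _
  have hinv : ∀ g : MulAut E, (∀ k ∈ K, g * k * g⁻¹ ∈ K) →
      ∀ i, (D i).map (MulAut.conj g).toMonoidHom = D i := by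
    intro g hg i
    induction i with
    | zero => rw [hD0]; exact conj_mem_iff_map hg
    | succ i ih => rw [hDs, map_commutator, ih]
  obtain ⟨q, hq, hqd⟩ := Nat.exists_prime_and_dvd (fun h => hA0 (Subgroup.card_eq_one.mp h) :
    Nat.card (D j) ≠ 1)
  have : Fact q.Prime := ⟨hq⟩
  let A : Subgroup (MulAut E) :=
    { carrier := {a | a ∈ D j ∧ a ^ q = 1}
      one_mem' := ⟨one_mem _, one_pow q⟩
      mul_mem' := fun {a b} ha hb => ⟨mul_mem ha.1 hb.1, by
        rw [Commute.mul_pow (hab a ha.1 b hb.1), ha.2, hb.2, one_mul]⟩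
      inv_mem' := fun {a} ha => ⟨inv_mem ha.1, by rw [inv_pow, ha.2, inv_one]⟩ }
  obtain ⟨a, ha⟩ := exists_prime_orderOf_dvd_card' q hqd
  refine ⟨A, q, hq, fun a ha => hDK ha.1, fun h => ?_, fun a ha b hb => hab a ha.1 b hb.1,
    fun a ha => ha.2, fun g hg a ha => ⟨?_, ?_⟩⟩
  · have h1 : (a : MulAut E) ∈ A := ⟨a.2, by
      rw [← SubmonoidClass.coe_pow, ← ha, pow_orderOf_eq_one, OneMemClass.coe_one]⟩
    rw [h, mem_bot] at h1
    have : a = 1 := Subtype.ext h1
    rw [this, orderOf_one] at ha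
    exact hq.one_lt.ne ha
  · rw [← hinv g hg j]; exact ⟨a, ha.1, by simp⟩
  · rw [conj_pow, ha.2, mul_one, mul_inv_cancel]

/-- The induction hypothesis. -/
def LiftsBelow (n : ℕ) : Prop :=
  ∀ (E : Type u) [Group E] [Finite E], Nat.card E ≤ n → ∀ (z : E), Sympl z →
    ∀ (P : Type w) [Group P] [Finite P], IsPGroup 2 P → ∀ (φ : P →* MulAut E), (∀ t, φ t z = z) →
    ∀ (K : Subgroup (MulAut E)) [Group.IsSolvable K], Odd (Nat.card K) → (∀ k ∈ K, k z = z) →
      (∀ t, ∀ k ∈ K, φ t * k * (φ t)⁻¹ ∈ K) → (∀ x ∈ fixSub K, x = 1 ∨ x = z) → HasLift z φ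

/-- Passing to an invariant proper subgroup. -/
theorem lift_sub [Finite E] {n : ℕ} (ih : LiftsBelow.{u, w} n) (hn : Nat.card E ≤ n + 1)
    {P : Type w} [Group P] [Finite P] (hP : IsPGroup 2 P) (φ : P →* MulAut E) (hφz : ∀ t, φ t z = z)
    (K : Subgroup (MulAut E)) [Group.IsSolvable K] (hodd : Odd (Nat.card K)) (hKz : ∀ k ∈ K, k z = z)
    (hnorm : ∀ t, ∀ k ∈ K, φ t * k * (φ t)⁻¹ ∈ K) (hfix : ∀ x ∈ fixSub K, x = 1 ∨ x = z)
    (F : Subgroup E) (hF : F ≠ ⊤) (hzF : z ∈ F) (hSF : Sympl (⟨z, hzF⟩ : F))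
    (hφF : ∀ t, ∀ x ∈ F, φ t x ∈ F) (hKF : ∀ k ∈ K, ∀ x ∈ F, k x ∈ F) :
    ∃ ψ, Restricts φ F ψ ∧ HasLift (⟨z, hzF⟩ : F) ψ := by
  obtain ⟨ψ, hψ⟩ := exists_restricts φ F hφF
  obtain ⟨χ, hχ⟩ := exists_restricts K.subtype F fun k => hKF k k.2
  have hsol : Group.IsSolvable χ.range := Group.isSolvable_of_surjective χ.rangeRestrict_surjective
  refine ⟨ψ, hψ, ih F ?_ _ hSF P hP ψ (fun t => Subtype.ext (by rw [hψ]; exact hφz t)) χ.range
    (hodd.of_dvd_nat (Subgroup.card_range_dvd χ)) ?_ ?_ ?_⟩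
  · have h1 : Nat.card F ≠ Nat.card E := fun h => hF (eq_top_of_card_eq _ h)
    have h2 := Subgroup.card_le_card_group F
    omega
  · rintro _ ⟨k, rfl⟩
    exact Subtype.ext (by rw [hχ]; exact hKz k k.2)
  · rintro t _ ⟨k, rfl⟩
    refine ⟨⟨φ t * k * (φ t)⁻¹, hnorm t k k.2⟩, MulEquiv.ext fun x => Subtype.ext ?_⟩
    rw [hχ, MulAut.mul_apply, MulAut.mul_apply, hψ, hχ]
    simp only [Subgroup.coe_subtype, MulAut.mul_apply]
    congr 2
    rw [← map_inv, ← map_inv, hψ]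
  · intro x hx
    refine (hfix x fun k hk => ?_).imp Subtype.ext Subtype.ext
    have := hx (χ ⟨k, hk⟩) ⟨_, rfl⟩
    rw [Subtype.ext_iff, hχ] at this
    exact this

/-- Splitting along a commuting invariant family. -/
theorem lift_family [Finite E] {n : ℕ} (ih : LiftsBelow.{u, w} n) (hn : Nat.card E ≤ n + 1)
    (hS : Sympl z) {P : Type w} [Group P] [Finite P] (hP : IsPGroup 2 P) (φ : P →* MulAut E)
    (hφz : ∀ t, φ t z = z)
    (K : Subgroup (MulAut E)) [Group.IsSolvable K] (hodd : Odd (Nat.card K)) (hKz : ∀ k ∈ K, k z = z)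
    (hnorm : ∀ t, ∀ k ∈ K, φ t * k * (φ t)⁻¹ ∈ K) (hfix : ∀ x ∈ fixSub K, x = 1 ∨ x = z)
    {ι : Type u} [Finite ι] [Nonempty ι] (G : ι → Subgroup E) (hz : ∀ i, z ∈ G i)
    (hcomm : ∀ i j, i ≠ j → ∀ x ∈ G i, ∀ y ∈ G j, x * y = y * x)
    (hproj : ∀ i e, ∃ n ∈ G i, ∀ y ∈ G i, sgn hS y n = sgn hS y e)
    (hφG : ∀ t, ∀ i, ∀ x ∈ G i, φ t x ∈ iSup G) (hKG : ∀ k ∈ K, ∀ i, ∀ x ∈ G i, k x ∈ iSup G)
    (htop : iSup G ≠ ⊤) (hbig : ¬ ∀ x ∈ iSup G, x = 1 ∨ x = z) : HasLift z φ := by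
  obtain ⟨h1, h2, h3⟩ := split_family hS G hz hcomm hproj
  set F := iSup G
  have hgen : ∀ g : MulAut E, (∀ i, ∀ x ∈ G i, g x ∈ F) → ∀ x ∈ F, g x ∈ F := fun g hg =>
    (iSup_le hg : F ≤ F.comap g.toMonoidHom)
  have hzF : z ∈ F := mem_iSup_of_mem (Classical.arbitrary ι) (hz _)
  have hzC : z ∈ centralizer (F : Set E) := mem_centralizer_iff.mpr fun y _ => (hS.central y).symm
  have hC : centralizer (F : Set E) ≠ ⊤ := fun h => hbig fun x hx => hS.nondeg x fun y => by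
    have : y ∈ centralizer (F : Set E) := h ▸ mem_top y
    exact mem_centralizer_iff.mp this x hx
  obtain ⟨ψ₁, hψ₁, hl₁⟩ := lift_sub ih hn hP φ hφz K hodd hKz hnorm hfix F htop hzF (hS.sub hzF h1)
    (fun t => hgen _ (hφG t)) fun k hk => hgen _ (hKG k hk)
  obtain ⟨ψ₂, hψ₂, hl₂⟩ := lift_sub ih hn hP φ hφz K hodd hKz hnorm hfix _ hC hzC (hS.sub hzC h2)
    (fun t x hx => centralizer_invariant (hgen _ (hφG t)) hx)
    fun k hk x hx => centralizer_invariant (hgen _ (hKG k hk)) hx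
  exact hasLift_of_pieces (fun x hx y hy => mem_centralizer_iff.mp hy x hx) h3 rfl rfl
    (hS.sub hzF h1) (hS.sub hzC h2) hψ₁ hψ₂ hl₁ hl₂

/-- The step for an abelian group of prime exponent without fixed points. -/
theorem lift_abelian [Finite E] {n : ℕ} (ih : LiftsBelow.{u, w} n) (hn : Nat.card E ≤ n + 1)
    (hS : Sympl z) {P : Type w} [Group P] [Finite P] (hP : IsPGroup 2 P) (φ : P →* MulAut E)
    (hφz : ∀ t, φ t z = z) (K : Subgroup (MulAut E)) (hodd : Odd (Nat.card K))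
    (hKz : ∀ k ∈ K, k z = z) (hnorm : ∀ t, ∀ k ∈ K, φ t * k * (φ t)⁻¹ ∈ K)
    (hfix : ∀ x ∈ fixSub K, x = 1 ∨ x = z) (hKne : K ≠ ⊥)
    (hab : ∀ a ∈ K, ∀ b ∈ K, a * b = b * a) {q : ℕ} (hq : q.Prime) (hexp : ∀ a ∈ K, a ^ q = 1) :
    HasLift z φ := by
  classical
  have hqF : Fact q.Prime := ⟨hq⟩
  have hsol : Group.IsSolvable K := by
    have : IsMulCommutative K := ⟨⟨fun a b => Subtype.ext (hab a a.2 b b.2)⟩⟩
    exact Group.isSolvable_of_comm fun a b => Subtype.ext (hab a a.2 b b.2)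
  let Bad : Subgroup (MulAut E) → Prop := fun L => L ≤ K ∧ ¬ ∀ x ∈ fixSub L, x = 1 ∨ x = z
  have hbot : Bad ⊥ := ⟨bot_le, fun h => by
    have hE : ∀ x : E, x = 1 ∨ x = z := fun x => h x fun k hk => by
      rw [mem_bot] at hk; simp [hk]
    refine hKne ((eq_bot_iff_forall _).mpr fun k hk => MulEquiv.ext fun x => ?_)
    rcases hE x with rfl | rfl <;> simp [hKz k hk]⟩
  obtain ⟨L₁, hL₁⟩ := Set.Finite.exists_maximal (Set.toFinite {L | Bad L}) ⟨⊥, hbot⟩
  have hmax : ∀ L, Bad L → L₁ ≤ L → L = L₁ := fun L h h' => le_antisymm (hL₁.2 h h') h'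
  let act : P → Subgroup (MulAut E) := fun t => L₁.map (MulAut.conj (φ t)).toMonoidHom
  have hact : ∀ t, fixSub (act t) = (fixSub L₁).map (φ t).toMonoidHom := fun t => fix_conj _ _
  have hmapK : ∀ t, K.map (MulAut.conj (φ t)).toMonoidHom = K := fun t => conj_mem_iff_map (hnorm t)
  have hbadAct : ∀ t, Bad (act t) := fun t => by
    refine ⟨(map_mono hL₁.1.1).trans (hmapK t).le, fun h => hL₁.1.2 fun x hx => ?_⟩
    have := h (φ t x) (by rw [hact]; exact ⟨x, hx, rfl⟩)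
    rcases this with h1 | h1
    · left; exact (φ t).injective (h1.trans (map_one _).symm)
    · right; exact (φ t).injective (h1.trans (hφz t).symm)
  have hmapAct : ∀ s t, (act t).map (MulAut.conj (φ s)).toMonoidHom = act (s * t) := fun s t => by
    simp only [act, map_map]
    congr 1
    refine MonoidHom.ext fun k => ?_
    simp [mul_assoc]
  have hact1 : act 1 = L₁ := by
    ext k
    simp [act, Subgroup.mem_map]
  have hmaxAct : ∀ t L, Bad L → act t ≤ L → L = act t := by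
    intro t L hL hle
    have h1 : Bad (L.map (MulAut.conj (φ t⁻¹)).toMonoidHom) := by
      refine ⟨(map_mono hL.1).trans (hmapK _).le, fun h => hL.2 fun x hx => ?_⟩
      have := h (φ t⁻¹ x) (by rw [fix_conj]; exact ⟨x, hx, rfl⟩)
      rcases this with h1 | h1
      · left; exact (φ t⁻¹).injective (h1.trans (map_one _).symm)
      · right; exact (φ t⁻¹).injective (h1.trans (hφz _).symm)
    have h2 := hmax _ h1 (by
      have := map_mono (f := (MulAut.conj (φ t⁻¹)).toMonoidHom) hle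
      rw [hmapAct, inv_mul_cancel, hact1] at this
      exact this)
    rw [show act t = (L₁.map (MulAut.conj (φ t)).toMonoidHom) from rfl, ← h2, map_map]
    conv_lhs => rw [← Subgroup.map_id L]
    congr 1
    refine MonoidHom.ext fun k => ?_
    simp [mul_assoc]
  -- the orbit
  let O := Set.range act
  let G : O → Subgroup E := fun L => fixSub (L : Subgroup (MulAut E))
  have hOodd : ∀ L : O, Odd (Nat.card (L : Subgroup (MulAut E))) := by
    rintro ⟨_, t, rfl⟩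
    exact hodd.of_dvd_nat (card_dvd_of_le (hbadAct t).1)
  have hOz : ∀ L : O, ∀ k ∈ (L : Subgroup (MulAut E)), k z = z := by
    rintro ⟨_, t, rfl⟩ k hk
    exact hKz k ((hbadAct t).1 hk)
  have hGz : ∀ L, z ∈ G L := fun L => hOz L
  have hcomm : ∀ i j, i ≠ j → ∀ x ∈ G i, ∀ y ∈ G j, x * y = y * x := by
    rintro ⟨_, s, rfl⟩ ⟨_, t, rfl⟩ hne x hx y hy
    obtain ⟨m, hm, hsgn, hcl⟩ := exists_norm hS (act s) (hOodd ⟨_, s, rfl⟩) (hOz ⟨_, s, rfl⟩) y
    have hmt : m ∈ fixSub (act t) := fun k hk => hcl k (hOz ⟨_, t, rfl⟩ k hk)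
      (hodd.of_dvd_nat (by
        rw [← Subgroup.orderOf_mk k ((hbadAct t).1 hk)]; exact orderOf_dvd_natCard _))
      (fun j hj => hab k ((hbadAct t).1 hk) j ((hbadAct s).1 hj)) (hy k hk)
    have hmz : m = 1 ∨ m = z := by
      by_contra hc
      have hbad : Bad (act s ⊔ act t) := ⟨sup_le (hbadAct s).1 (hbadAct t).1, fun h => hc (h m fun k hk =>
        (sup_le (fun k hk => hm k hk) (fun k hk => hmt k hk) :
          act s ⊔ act t ≤ MulAction.stabilizer (MulAut E) m) hk)⟩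
      have h1 := hmaxAct s _ hbad le_sup_left
      have h2 := hmaxAct t _ hbad le_sup_right
      exact hne (Subtype.ext (h1.symm.trans h2))
    have h3 : sgn hS x y = 1 := by
      rw [← hsgn x hx, sgn_eq_one_iff]
      rcases hmz with rfl | rfl
      · simp
      · exact hS.central x
    exact ((sgn_eq_one_iff hS).mp h3).symm
  have hproj : ∀ i e, ∃ n ∈ G i, ∀ y ∈ G i, sgn hS y n = sgn hS y e := fun i e => by
    obtain ⟨m, hm, hsgn, -⟩ := exists_norm hS (i : Subgroup (MulAut E)) (hOodd i) (hOz i) e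
    exact ⟨m, hm, hsgn⟩
  have hφG : ∀ t, ∀ i, ∀ x ∈ G i, φ t x ∈ iSup G := by
    rintro t ⟨_, s, rfl⟩ x hx
    refine mem_iSup_of_mem (⟨act (t * s), ⟨_, rfl⟩⟩ : O) ?_
    change φ t x ∈ fixSub (act (t * s))
    rw [← hmapAct, fix_conj]
    exact ⟨x, hx, rfl⟩
  have hKG : ∀ k ∈ K, ∀ i, ∀ x ∈ G i, k x ∈ iSup G := by
    rintro k hk ⟨_, s, rfl⟩ x hx
    refine mem_iSup_of_mem (⟨act s, ⟨_, rfl⟩⟩ : O) (fix_invariant (fun j hj => ?_) hx)
    rw [hab k hk j ((hbadAct s).1 hj), mul_inv_cancel_right]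
    exact hj
  have : Nonempty O := ⟨⟨_, 1, rfl⟩⟩
  have hbig : ¬ ∀ x ∈ iSup G, x = 1 ∨ x = z := fun h =>
    (hbadAct 1).2 fun x hx => h x (mem_iSup_of_mem (⟨_, 1, rfl⟩ : O) hx)
  by_cases htop : iSup G = ⊤
  swap
  · exact lift_family ih hn hS hP φ hφz K hodd hKz hnorm hfix G hGz hcomm hproj hφG hKG htop hbig
  -- the stabiliser
  let St : Subgroup P :=
    { carrier := {t | act t = L₁}
      one_mem' := hact1
      mul_mem' := fun {s t} hs ht => by
        change act (s * t) = L₁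
        rw [← hmapAct, show act t = L₁ from ht]; exact hs
      inv_mem' := fun {s} hs => by
        change act s⁻¹ = L₁
        conv_rhs => rw [← hact1, ← inv_mul_cancel s, ← hmapAct, show act s = L₁ from hs] }
  by_cases hSt : St = ⊤
  · -- one piece: a fixed-point-free cyclic group
    have hall : ∀ i : O, (i : Subgroup (MulAut E)) = L₁ := by
      rintro ⟨_, t, rfl⟩
      exact (hSt ▸ mem_top t : t ∈ St)
    have hL₁bot : L₁ = ⊥ := (eq_bot_iff_forall _).mpr fun k hk => MulEquiv.ext fun x => by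
      have hle : iSup G ≤ fixSub L₁ := iSup_le fun i => le_of_eq (congr_arg fixSub (hall i))
      rw [htop] at hle
      simpa using hle (mem_top x) k hk
    have hfpf : ∀ k ∈ K, k ≠ 1 → ∀ x, k x = x → x = 1 ∨ x = z := by
      intro k hk hk1 x hx
      by_contra hc
      have hbad : Bad (zpowers k) := ⟨zpowers_le.mpr hk, fun h => hc (h x fun j hj =>
        (zpowers_le.mpr hx : zpowers k ≤ MulAction.stabilizer (MulAut E) x) hj)⟩
      have := hmax _ hbad (by rw [hL₁bot]; exact bot_le)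
      rw [hL₁bot, zpowers_eq_bot] at this
      exact hk1 this
    have hcyc : IsCyclic K := by
      by_contra hnc
      obtain ⟨k, hk, hk1, x, hx1, hxz, hkx⟩ := exists_fixed hS K hodd hKz hab hnc
      exact (hfpf k hk hk1 x hkx).elim hx1 hxz
    obtain ⟨g, hg⟩ := IsCyclic.exists_generator (α := K)
    have hKg : K = zpowers (g : MulAut E) := by
      refine le_antisymm (fun k hk => ?_) (zpowers_le.mpr g.2)
      obtain ⟨i, hi⟩ := mem_zpowers_iff.mp (hg ⟨k, hk⟩)
      exact mem_zpowers_iff.mpr ⟨i, by simpa using congr_arg Subtype.val hi⟩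
    have hg1 : (g : MulAut E) ≠ 1 := fun h => hKne (by rw [hKg, h, zpowers_one_eq_bot])
    have hord : orderOf (g : MulAut E) = q := orderOf_eq_prime (hexp g g.2) hg1
    refine hasLift_base hP hS ?_ (g : MulAut E) hord (hfpf g g.2 hg1) (hKz g g.2) φ hφz
      fun t => hKg ▸ hnorm t g g.2
    intro h2
    have : q ∣ Nat.card K := hord ▸ Subgroup.orderOf_dvd_natCard K g.2
    rw [h2] at this
    exact (Nat.not_even_iff_odd.mpr hodd) (even_iff_two_dvd.mpr this)
  -- two halves exchanged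
  obtain ⟨M, hM, hStM⟩ := (eq_top_or_exists_le_coatom St).resolve_left hSt
  obtain ⟨hMn, hMi⟩ := CfsgLib.Transfer.coatom_index_eq_prime hP hM
  obtain ⟨t, ht⟩ : ∃ t : P, t ∉ M := by
    by_contra h
    push Not at h
    exact hM.1 ((eq_top_iff' M).mpr h)
  have ht2 : t * t ∈ M := by
    rw [mul_mem_iff_of_index_two hMi]
  have hsplit : ∀ p : P, p ∈ M ∨ t⁻¹ * p ∈ M := fun p => by
    by_cases hp : p ∈ M
    · exact Or.inl hp
    · right
      rw [mul_mem_iff_of_index_two hMi, inv_mem_iff]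
      exact iff_of_false ht hp
  let G₁ : {L : O // ∃ m ∈ M, act m = (L : Subgroup (MulAut E))} → Subgroup E := fun L => G L.1
  have : Nonempty {L : O // ∃ m ∈ M, act m = (L : Subgroup (MulAut E))} :=
    ⟨⟨⟨_, 1, rfl⟩, 1, one_mem M, rfl⟩⟩
  obtain ⟨hc₁, -, -⟩ := split_family hS G₁ (fun L => hGz L.1)
    (fun i j hne => hcomm _ _ fun h => hne (Subtype.ext h)) fun i => hproj i.1
  set F₁ := iSup G₁
  have hzF₁ : z ∈ F₁ := mem_iSup_of_mem (Classical.arbitrary _) (hGz _)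
  let F₂ := F₁.map (φ t).toMonoidHom
  have hdisj : ∀ m ∈ M, ∀ m' ∈ M, act (t * m) ≠ act m' := by
    intro m hm m' hm' h
    have : m'⁻¹ * (t * m) ∈ St := by
      change act _ = L₁
      rw [← hmapAct, h, hmapAct, inv_mul_cancel, hact1]
    have h1 := hStM this
    rw [mul_mem_cancel_left (inv_mem hm'), mul_mem_cancel_right hm] at h1
    exact ht h1
  have hF₂ : ∀ m ∈ M, fixSub (act (t * m)) ≤ F₂ := fun m hm => by
    rw [← hmapAct, fix_conj]
    exact map_mono (le_iSup G₁ ⟨⟨_, m, rfl⟩, m, hm, rfl⟩)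
  have hcomm12 : ∀ x ∈ F₁, ∀ y ∈ F₂, x * y = y * x := by
    have h : F₁ ≤ centralizer (F₂ : Set E) := iSup_le fun ⟨⟨L, hL⟩, m, hm, hmL⟩ => by
      change fixSub L ≤ _
      rw [← show act m = L from hmL, le_centralizer_iff]
      change (iSup G₁).map _ ≤ _
      rw [Subgroup.map_iSup]
      refine iSup_le fun ⟨⟨L', hL'⟩, m', hm', hmL'⟩ => ?_
      rintro _ ⟨y, hy, rfl⟩
      refine mem_centralizer_iff.mpr fun x hx => ?_
      refine hcomm ⟨_, m, rfl⟩ ⟨_, t * m', rfl⟩ (fun h => hdisj m' hm' m hm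
        (congr_arg Subtype.val h).symm) x hx _ ?_
      change (φ t).toMonoidHom y ∈ fixSub (act (t * m'))
      rw [← hmapAct, fix_conj]
      refine ⟨y, ?_, rfl⟩
      rw [show act m' = L' from hmL']
      exact hy
    exact fun x hx y hy => (mem_centralizer_iff.mp (h hx) y hy).symm
  have htop12 : F₁ ⊔ F₂ = ⊤ := by
    rw [eq_top_iff, ← htop]
    refine iSup_le fun ⟨_, p, rfl⟩ => ?_
    rcases hsplit p with hp | hp
    · exact le_sup_of_le_left (le_iSup G₁ ⟨⟨_, p, rfl⟩, p, hp, rfl⟩)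
    · refine le_sup_of_le_right ?_
      have := hF₂ _ hp
      rwa [mul_inv_cancel_left] at this
  have hF₁top : F₁ ≠ ⊤ := fun h => by
    refine hbadAct (t * 1) |>.2 fun x hx => hS.nondeg x fun y => ?_
    exact (hcomm12 y (h ▸ mem_top y) x (hF₂ 1 (one_mem M) hx)).symm
  have hMF : ∀ m ∈ M, ∀ x ∈ F₁, φ m x ∈ F₁ := fun m hm =>
    (iSup_le fun ⟨⟨L, hL⟩, m', hm', hmL⟩ => fun x hx => by
      refine mem_iSup_of_mem (⟨⟨act (m * m'), ⟨_, rfl⟩⟩, m * m', mul_mem hm hm', rfl⟩ :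
        {L : O // ∃ m ∈ M, act m = (L : Subgroup (MulAut E))}) ?_
      change φ m x ∈ fixSub (act (m * m'))
      rw [← hmapAct, fix_conj]
      refine ⟨x, ?_, rfl⟩
      rw [show act m' = L from hmL]
      exact hx : F₁ ≤ F₁.comap (φ m).toMonoidHom)
  have hKF : ∀ k ∈ K, ∀ x ∈ F₁, k x ∈ F₁ := fun k hk =>
    (iSup_le fun L => fun x hx => by
      refine mem_iSup_of_mem L (fix_invariant (fun j hj => ?_) hx)
      have hjK : j ∈ K := by
        obtain ⟨s, hs⟩ := L.1.2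
        exact (hbadAct s).1 (by rw [hs]; exact hj)
      rw [hab k hk j hjK, mul_inv_cancel_right]
      exact hj : F₁ ≤ F₁.comap (k : MulAut E).toMonoidHom)
  have : M.Normal := hMn
  obtain ⟨ψ₁, hψ₁, hl⟩ := lift_sub ih hn (hP.to_subgroup M) (φ.comp M.subtype) (fun m => hφz m) K hodd
    hKz (fun m => hnorm m) hfix F₁ hF₁top hzF₁ (hS.sub hzF₁ hc₁) (fun m => hMF m m.2) hKF
  refine hasLift_of_swap hS hφz M t (fun p => ?_) ht2 hcomm12 htop12 (fun x => ?_) hMF rfl
    (hS.sub hzF₁ hc₁) hψ₁ hl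
  · rcases hsplit p with hp | hp
    · exact ⟨0, by simpa using hp⟩
    · refine ⟨1, ?_⟩
      have := hMn.conj_mem _ hp t
      simpa [mul_assoc] using this
  · exact ⟨fun ⟨y, hy, h⟩ => (φ t).injective h ▸ hy, fun h => ⟨x, h, rfl⟩⟩

/-- **The lifting theorem.** -/
theorem liftsBelow : ∀ n, LiftsBelow.{u, w} n := by
  intro n
  induction n with
  | zero => intro E _ _ h; exact absurd h (Nat.not_le.mpr Nat.card_pos)
  | succ n ih =>
    intro E _ _ hn z hS P _ _ hP φ hφz K _ hodd hKz hnorm hfix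
    by_cases hK : K = ⊥
    · intro V _ _ _ σ _ _
      refine ⟨1, fun t e => ?_⟩
      have : φ t e = e := by
        rcases hfix e (fun k hk => by rw [hK, mem_bot] at hk; simp [hk]) with rfl | rfl
        · simp
        · exact hφz t
      simp [this]
    obtain ⟨A, q, hq, hAK, hA1, hab, hexp, hinv⟩ := exists_abelian_inv K hK
    have hAodd : Odd (Nat.card A) := hodd.of_dvd_nat (card_dvd_of_le hAK)
    have hAz : ∀ k ∈ A, k z = z := fun k hk => hKz k (hAK hk)
    by_cases hfixA : ∀ x ∈ fixSub A, x = 1 ∨ x = z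
    · exact lift_abelian ih hn hS hP φ hφz A hAodd hAz (fun t => hinv _ (hnorm t)) hfixA hA1 hab hq hexp
    · refine lift_family ih hn hS hP φ hφz K hodd hKz hnorm hfix (ι := PUnit) (fun _ => fixSub A)
        (fun _ => hAz) (fun i j h => absurd (Subsingleton.elim i j) h) (fun _ e => ?_) ?_ ?_ ?_ ?_
      · obtain ⟨m, hm, hsgn, -⟩ := exists_norm hS A hAodd hAz e
        exact ⟨m, hm, hsgn⟩
      · exact fun t _ x hx => mem_iSup_of_mem PUnit.unit (fix_invariant (hinv _ (hnorm t)) hx)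
      · exact fun k hk _ x hx => mem_iSup_of_mem PUnit.unit (fix_invariant
          (hinv _ fun j hj => mul_mem (mul_mem hk hj) (inv_mem hk)) hx)
      · rw [iSup_const]
        intro h
        refine hA1 ((eq_bot_iff_forall _).mpr fun k hk => MulEquiv.ext fun x => ?_)
        simpa using (h ▸ mem_top x : x ∈ fixSub A) k hk
      · rw [iSup_const]; exact hfixA

end CfsgLib.BlockB.Dade
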