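import Cfsg.Agent.Lib.Clifford.Extension
import Cfsg.Agent.Lib.Char.Monomial
import Cfsg.Agent.Lib.Char.Diag

/-!
# Representations of groups with a two element centre containing all commutators

For a finite group `E` with central `z ≠ 1` of order `2`, all commutators in `{1, z}` and centre
`{1, z}`, the representations sending `z` to `-1` all have the same kernel on the group algebra; for an
irreducible one every operator is a combination of the images of the elements.
-/

namespace CfsgLib.BlockB.Dade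

open Module Finset

universe u v w

/-- Centre `{1, z}` of order two containing all commutators. -/
structure Sympl {E : Type u} [Group E] (z : E) : Prop where
  ne_one : z ≠ 1
  sq : z * z = 1
  central : ∀ e, z * e = e * z
  comm : ∀ a b : E, a * b = b * a ∨ a * b = z * (b * a)
  nondeg : ∀ x : E, (∀ y, x * y = y * x) → x = 1 ∨ x = z

variable {E : Type u} [Group E] {z : E}
variable {V : Type v} [AddCommGroup V] [Module ℂ V]

theorem Sympl.inv_eq (hS : Sympl z) : z⁻¹ = z := inv_eq_of_mul_eq_one_left hS.sq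

theorem Sympl.conj_eq (hS : Sympl z) (h e : E) : h * e * h⁻¹ = e ∨ h * e * h⁻¹ = z * e := by
  rcases hS.comm h e with hc | hc
  · left; rw [hc, mul_inv_cancel_right]
  · right; rw [hc, ← mul_assoc, mul_inv_cancel_right]

theorem Sympl.exists_flip (hS : Sympl z) {e : E} (h1 : e ≠ 1) (h2 : e ≠ z) :
    ∃ h, h * e * h⁻¹ = z * e := by
  by_contra hc
  push Not at hc
  exact (hS.nondeg e fun y => by
    have := (hS.conj_eq y e).resolve_right (hc y)
    exact (mul_inv_eq_iff_eq_mul.mp this).symm).elim h1 h2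

/-- A linear combination of the images of the elements. -/
noncomputable def lc [Fintype E] (σ : Representation ℂ E V) (f : E → ℂ) : Module.End ℂ V :=
  ∑ e, f e • σ e

variable [Fintype E]

theorem lc_add (σ : Representation ℂ E V) (f g : E → ℂ) : lc σ (f + g) = lc σ f + lc σ g := by
  simp [lc, add_smul, Finset.sum_add_distrib]

theorem lc_sub (σ : Representation ℂ E V) (f g : E → ℂ) : lc σ (f - g) = lc σ f - lc σ g := by
  simp [lc, sub_smul, Finset.sum_sub_distrib]

theorem lc_smul (σ : Representation ℂ E V) (c : ℂ) (f : E → ℂ) : lc σ (c • f) = c • lc σ f := by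
  simp [lc, Finset.smul_sum, mul_smul]

theorem lc_mul (σ : Representation ℂ E V) (f g : E → ℂ) :
    lc σ f * lc σ g = lc σ (fun x => ∑ y, f y * g (y⁻¹ * x)) := by
  simp only [lc, Finset.sum_smul]
  rw [Finset.sum_mul, Finset.sum_comm (γ := E)]
  refine Finset.sum_congr rfl fun y _ => ?_
  rw [Finset.mul_sum]
  refine Fintype.sum_equiv (Equiv.mulLeft y) _ _ fun x => ?_
  simp [smul_smul, mul_comm (g x)]

theorem lc_shift (σ : Representation ℂ E V) (f : E → ℂ) (g : E) :
    lc σ (fun x => f (x * g)) = lc σ f * σ g⁻¹ := by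
  simp only [lc, Finset.sum_mul]
  refine Fintype.sum_equiv (Equiv.mulRight g) _ _ fun x => ?_
  simp [← map_mul]

theorem lc_single [DecidableEq E] (σ : Representation ℂ E V) (a : E) :
    lc σ (Pi.single a 1) = σ a := by
  simp [lc, Pi.single_apply, ite_smul]

omit [Fintype E] in
theorem rep_mul_z {σ : Representation ℂ E V} (hσ : σ z = -1) (e : E) : σ (z * e) = -σ e := by
  rw [map_mul, hσ, neg_one_mul]

theorem sum_conj [DecidableEq E] (hS : Sympl z) {σ : Representation ℂ E V} (hσ : σ z = -1)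
    (e : E) : ∑ h, σ (h * e * h⁻¹) = if e = 1 then (Fintype.card E : ℂ) • 1
      else if e = z then -((Fintype.card E : ℂ) • 1) else 0 := by
  split_ifs with h1 h2
  · simp [h1, Finset.sum_const, Nat.cast_smul_eq_nsmul]
  · have : ∀ h : E, h * e * h⁻¹ = z := fun h => by
      rw [h2, ← hS.central h, mul_inv_cancel_right]
    simp [this, hσ, Finset.sum_const, Nat.cast_smul_eq_nsmul]
  · obtain ⟨g, hg⟩ := hS.exists_flip h1 h2
    have h3 : ∀ h : E, σ (h * g * e * (h * g)⁻¹) = -σ (h * e * h⁻¹) := fun h => by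
      rw [show h * g * e * (h * g)⁻¹ = h * (g * e * g⁻¹) * h⁻¹ by group, hg,
        ← mul_assoc h, ← hS.central h, mul_assoc z, mul_assoc z, rep_mul_z hσ]
    have h4 : ∑ h, σ (h * e * h⁻¹) = -∑ h, σ (h * e * h⁻¹) := by
      rw [← Finset.sum_neg_distrib]
      exact (Fintype.sum_equiv (Equiv.mulRight g) _ _ fun h => (h3 h).symm).symm
    have h5 : (2 : ℂ) • ∑ h, σ (h * e * h⁻¹) = 0 := by
      rw [two_smul]; nth_rw 2 [h4]; exact add_neg_cancel _
    exact (smul_eq_zero.mp h5).resolve_left two_ne_zero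

theorem avg_lc (hS : Sympl z) {σ : Representation ℂ E V} (hσ : σ z = -1) (f : E → ℂ) :
    ∑ h, σ h * lc σ f * σ h⁻¹ = ((Fintype.card E : ℂ) * (f 1 - f z)) • (1 : Module.End ℂ V) := by
  classical
  simp only [lc, Finset.mul_sum, Finset.sum_mul, mul_smul_comm, smul_mul_assoc, ← map_mul]
  rw [Finset.sum_comm]
  simp only [← Finset.smul_sum, sum_conj hS hσ]
  rw [Fintype.sum_eq_add 1 z hS.ne_one.symm fun x hx => by simp [hx.1, hx.2]]
  simp only [if_true, if_neg hS.ne_one, smul_neg, smul_smul]
  rw [← sub_eq_add_neg, ← sub_smul]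
  ring_nf

/-- The coefficients modulo `z` are determined by any representation with `z ↦ -1`. -/
theorem coeff_eq_of_lc_eq_zero [Nontrivial V] (hS : Sympl z) {σ : Representation ℂ E V}
    (hσ : σ z = -1) {f : E → ℂ} (hf : lc σ f = 0) (e : E) : f (z * e) = f e := by
  have h := avg_lc hS hσ (fun x => f (x * e))
  rw [lc_shift, hf, zero_mul] at h
  simp only [mul_zero, zero_mul, Finset.sum_const_zero, one_mul] at h
  have h2 := (smul_eq_zero.mp h.symm).resolve_right one_ne_zero
  exact (sub_eq_zero.mp ((mul_eq_zero.mp h2).resolve_left (by simp))).symm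

theorem lc_eq_zero_of_coeff (hS : Sympl z) {σ : Representation ℂ E V} (hσ : σ z = -1)
    {f : E → ℂ} (hf : ∀ e, f (z * e) = f e) : lc σ f = 0 := by
  have h : lc σ f = -lc σ f := by
    simp only [lc, ← Finset.sum_neg_distrib]
    exact (Fintype.sum_equiv (Equiv.mulLeft z) _ _ fun e => by
      simp [hf, rep_mul_z hσ]).symm
  have h5 : (2 : ℂ) • lc σ f = 0 := by
    rw [two_smul]; nth_rw 2 [h]; exact add_neg_cancel _
  exact (smul_eq_zero.mp h5).resolve_left two_ne_zero

/-- **Transfer**: identities in one representation hold in all. -/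
theorem lc_eq_of_lc_eq [Nontrivial V] (hS : Sympl z) {σ : Representation ℂ E V} (hσ : σ z = -1)
    {W : Type w} [AddCommGroup W] [Module ℂ W] {τ : Representation ℂ E W} (hτ : τ z = -1)
    {f g : E → ℂ} (h : lc σ f = lc σ g) : lc τ f = lc τ g := by
  rw [← sub_eq_zero, ← lc_sub]
  exact lc_eq_zero_of_coeff hS hτ fun e =>
    coeff_eq_of_lc_eq_zero hS hσ (by rw [lc_sub, h, sub_self]) e

section Irr

variable [FiniteDimensional ℂ V]

omit [FiniteDimensional ℂ V] in
theorem trace_eq_zero (hS : Sympl z) {σ : Representation ℂ E V} (hσ : σ z = -1) {e : E}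
    (h1 : e ≠ 1) (h2 : e ≠ z) : LinearMap.trace ℂ V (σ e) = 0 := by
  obtain ⟨h, hh⟩ := hS.exists_flip h1 h2
  have := σ.char_conj e h
  rw [hh] at this
  unfold Representation.character at this
  rw [rep_mul_z hσ, map_neg, neg_eq_iff_add_eq_zero] at this
  exact mul_self_eq_zero.mp (by linear_combination (LinearMap.trace ℂ V (σ e)) / 2 * this)

theorem char_eq (hS : Sympl z) {σ : Representation ℂ E V} (hσ : σ z = -1) [DecidableEq E]
    (e : E) : σ.character e =
      if e = 1 then (finrank ℂ V : ℂ) else if e = z then -(finrank ℂ V : ℂ) else 0 := by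
  split_ifs with h1 h2
  · rw [h1, Representation.char_one]
  · change LinearMap.trace ℂ V (σ e) = _
    rw [h2, hσ, map_neg, LinearMap.trace_one]
  · exact trace_eq_zero hS hσ h1 h2

theorem sum_conj_smul (σ : Representation ℂ E V) [σ.IsIrreducible] (X : Module.End ℂ V) :
    ∑ h, σ h * X * σ h⁻¹ =
      ((Fintype.card E : ℂ) * LinearMap.trace ℂ V X / finrank ℂ V) • (1 : Module.End ℂ V) := by
  obtain ⟨c, hc⟩ := Char.exists_scalar_of_commute σ (∑ h, σ h * X * σ h⁻¹) fun g => by
    simp only [← Module.End.mul_eq_comp]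
    rw [Finset.sum_mul, Finset.mul_sum]
    refine (Fintype.sum_equiv (Equiv.mulLeft g) _ _ fun h => ?_).symm
    simp [mul_assoc, map_mul, ← map_mul σ g⁻¹]
  have := Char.nontrivial_of_isIrreducible σ
  have hd : (finrank ℂ V : ℂ) ≠ 0 := Nat.cast_ne_zero.mpr Module.finrank_pos.ne'
  rw [← Module.End.one_eq_id] at hc
  have htr := congr_arg (LinearMap.trace ℂ V) hc
  rw [map_sum, map_smul, LinearMap.trace_one, smul_eq_mul,
    Finset.sum_congr rfl fun h _ => (LinearMap.trace_mul_comm ℂ (σ h * X) (σ h⁻¹))] at htr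
  simp only [← mul_assoc, ← map_mul, inv_mul_cancel, map_one, one_mul, Finset.sum_const,
    Finset.card_univ, nsmul_eq_mul] at htr
  rw [hc]
  congr 1
  rw [eq_div_iff hd, htr]

theorem two_mul_sq (hS : Sympl z) {σ : Representation ℂ E V} [σ.IsIrreducible] (hσ : σ z = -1) :
    2 * (finrank ℂ V : ℂ) ^ 2 = Fintype.card E := by
  classical
  have h := Char.irr_classInner_self (Char.isIrrCharacter_of_rep σ)
  simp only [Cfsg.classInner, char_eq hS hσ] at h
  rw [Fintype.sum_eq_add 1 z hS.ne_one.symm fun x hx => by simp [hx.1, hx.2]] at h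
  simp [hS.ne_one] at h
  field_simp at h
  linear_combination h

/-- Every operator is a combination of the images of the elements. -/
theorem eq_lc (hS : Sympl z) {σ : Representation ℂ E V} [σ.IsIrreducible] (hσ : σ z = -1)
    (X : Module.End ℂ V) :
    X = lc σ (fun e => LinearMap.trace ℂ V (X * σ e⁻¹) / (2 * finrank ℂ V)) := by
  classical
  have hn : (Fintype.card E : ℂ) ≠ 0 := Nat.cast_ne_zero.mpr Fintype.card_ne_zero
  have := Char.nontrivial_of_isIrreducible σ
  have hd : (finrank ℂ V : ℂ) ≠ 0 := Nat.cast_ne_zero.mpr Module.finrank_pos.ne'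
  have key : ∑ e, (∑ h, σ h * (X * σ e⁻¹) * σ h⁻¹) * σ e =
      (2 * (Fintype.card E : ℂ)) • X := by
    simp only [Finset.sum_mul]
    rw [Finset.sum_comm]
    have e1 : ∀ h e : E, σ h * (X * σ e⁻¹) * σ h⁻¹ * σ e = σ h * X * σ (e⁻¹ * h⁻¹ * e⁻¹⁻¹) :=
      fun h e => by simp [map_mul, mul_assoc]
    simp only [e1, ← Finset.mul_sum]
    have e2 : ∀ h : E, ∑ e, σ (e⁻¹ * h⁻¹ * e⁻¹⁻¹) = ∑ e, σ (e * h⁻¹ * e⁻¹) := fun h =>
      Fintype.sum_equiv (Equiv.inv E) _ _ fun e => rfl
    simp only [e2, sum_conj hS hσ, inv_eq_one]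
    rw [Fintype.sum_eq_add 1 z hS.ne_one.symm fun x hx => by
      have : x⁻¹ ≠ z := fun h => hx.2 (by rw [← inv_inv x, h, hS.inv_eq])
      simp [hx.1, this]]
    simp [hS.ne_one, hS.inv_eq, hσ, two_mul, add_smul]
  simp only [sum_conj_smul σ, smul_mul_assoc, one_mul] at key
  rw [lc, eq_comm, ← smul_right_inj (mul_ne_zero two_ne_zero hn), ← key, Finset.smul_sum]
  refine Finset.sum_congr rfl fun e _ => ?_
  rw [smul_smul]
  congr 1
  field_simp

omit [Fintype E] in
/-- An operator commuting with the group is a scalar. -/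
theorem exists_scalar (σ : Representation ℂ E V) [σ.IsIrreducible] (X : Module.End ℂ V)
    (h : ∀ e, X * σ e = σ e * X) : ∃ c : ℂ, X = c • 1 := by
  obtain ⟨c, hc⟩ := Char.exists_scalar_of_commute σ X h
  exact ⟨c, by rw [hc, Module.End.one_eq_id]⟩

/-- Automorphisms fixing `z` are implemented. -/
theorem exists_intertwiner (hS : Sympl z) {σ : Representation ℂ E V} [σ.IsIrreducible]
    (hσ : σ z = -1) (α : MulAut E) (hα : α z = z) :
    ∃ A : (Module.End ℂ V)ˣ, ∀ e, (A : Module.End ℂ V) * σ e = σ (α e) * A := by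
  classical
  let τ : Representation ℂ E V := σ.comp α.toMonoidHom
  have hτz : τ z = -1 := by simp [τ, hα, hσ]
  have : τ.IsIrreducible := Char.isIrreducible_comp_surjective σ α.toMonoidHom α.surjective
  obtain ⟨A, hA⟩ := Clifford.exists_unit_of_char_eq σ τ
    (funext fun e => by rw [char_eq hS hσ, char_eq hS hτz])
  exact ⟨A, fun e => by simpa [τ] using congr_arg Units.val (hA e)⟩

end Irr

end CfsgLib.BlockB.Dade
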